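import Mathlib
import Cfsg.Agent.R2.H27S.Wel
import Cfsg.Agent.R2.H27S.Tab
import Cfsg.Agent.R2.H27S.TabDFourB
import Cfsg.Agent.R2.H27S.TabTOneB
import Cfsg.Agent.BpExc.TorChev
import Cfsg.Agent.GpExc.Field
import Cfsg.Agent.Nodes.RGDFoldSL
import Cfsg.Agent.H475.CoxD
import Cfsg.Agent.S1035

/-!
# `E₇(2)` in `E₇(4)`: perfect subgroups centralising three commuting elements of order 3 (S5934, box S8)
-/

set_option autoImplicit false
set_option linter.unusedSectionVars false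

namespace Cfsg.Agent.R2.H27S.FFour

open CoxeterSystem Cfsg.Agent.ChevalleyStructure.CoxeterGeom Cfsg.Agent.Tits.Roots Cfsg.Agent.Tits.Core
  Cfsg.Agent.Nodes.Reps Cfsg.Agent.Nodes.BNOf Cfsg.Agent.Nodes.StabComb Cfsg.Agent.Nodes.Bruhat
  Cfsg.Agent.Nodes.OppDec Cfsg.Agent.Nodes.LeviDec Cfsg.Agent.Nodes.SubComb Cfsg.Agent.Nodes.Coroot
open Cfsg.Lie Cfsg.Agent.ChevalleyStructure Cfsg.Agent.ChevalleyStructure.Elts Cfsg.Agent.Nodes.RGDChev
  Cfsg.Agent.ChevalleyStructure.CoxeterGeomTypes Cfsg.Agent.ChevalleyStructure.NPerm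
  Cfsg.Agent.KFacts.RgdChevCoord
open Cfsg.Agent.H904.E7Lat Cfsg.Agent.H904.E7Form Cfsg.Agent.H904.E7Main
open Cfsg.Agent.ChevalleyStructure.SL2Hom (up lo)
open Cfsg.Agent.Nodes.RGDFoldSL
open Cfsg.Agent.R2.H27 (G7)
open Cfsg.Agent.R2.H27S.ESeven Cfsg.Agent.R2.H27S.FTwo Cfsg.Agent.R2.H27S.Wel Cfsg.Agent.R2.H27S.Tab
  Cfsg.Agent.H129.FE
open Cfsg.Agent.GpExc.Field (emb coe_emb emb_injective glMap_xG)

/-! ### the field with four elements -/

theorem exists_omega {K : Type*} [Field K] [Fintype K] (hK : Fintype.card K = 4) :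
    ∃ ω : K, ω ≠ 0 ∧ ω ≠ 1 ∧ ω ^ 3 = 1 ∧ ω ^ 2 + ω + 1 = 0 := by
  have : Fact (Nat.Prime 3) := ⟨by norm_num⟩
  have h1 : 3 ∣ Nat.card Kˣ := by
    rw [Nat.card_units, Nat.card_eq_fintype_card, hK]
  obtain ⟨u, hu⟩ := exists_prime_orderOf_dvd_card' 3 h1
  have h2 : (u : K) ^ 3 = 1 := by
    rw [← Units.val_pow_eq_pow_val, ← hu, pow_orderOf_eq_one, Units.val_one]
  have h3 : (u : K) ≠ 1 := by
    intro h
    have : u = 1 := Units.ext h
    rw [this, orderOf_one] at hu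
    omega
  refine ⟨u, u.ne_zero, h3, h2, ?_⟩
  have h4 : ((u : K) - 1) * ((u : K) ^ 2 + u + 1) = 0 := by
    have : ((u : K) - 1) * ((u : K) ^ 2 + u + 1) = (u : K) ^ 3 - 1 := by ring
    rw [this, h2, sub_self]
  rcases mul_eq_zero.1 h4 with h5 | h5
  · exact absurd (sub_eq_zero.1 h5) h3
  · exact h5

section SL

open Matrix

variable {K : Type*} [Field K] [CharP K 2] {ω : K}

theorem two0 : (2 : K) = 0 := CharTwo.two_eq_zero

/-- the matrix diagonalising `(0 1; 1 1)` -/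
def gS (h : ω ^ 2 + ω + 1 = 0) : Matrix.SpecialLinearGroup (Fin 2) K :=
  ⟨!![1, ω; 1, ω ^ 2], by
    rw [Matrix.det_fin_two_of]
    have : (1 : K) * ω ^ 2 - ω * 1 = (ω ^ 2 + ω + 1) - 2 * ω - 1 := by ring
    rw [this, h, two0]
    have h1 : (-1 : K) = 1 := by
      have h2 : (1 : K) + 1 = 0 := by
        have := two0 (K := K)
        rw [← this]; norm_num
      exact (eq_neg_of_add_eq_zero_left h2).symm
    rw [zero_mul, sub_zero, zero_sub, h1]⟩

theorem gS_conj (h0 : ω ≠ 0) (h : ω ^ 2 + ω + 1 = 0) : gS h * (up 1 * lo 1) * (gS h)⁻¹ = hS ω := by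
  rw [mul_inv_eq_iff_eq_mul]
  apply Subtype.ext
  rw [Matrix.SpecialLinearGroup.coe_mul, Matrix.SpecialLinearGroup.coe_mul, Matrix.SpecialLinearGroup.coe_mul,
    coe_hS h0]
  show !![1, ω; 1, ω ^ 2] * (!![1, 1; 0, 1] * !![1, 0; 1, 1]) = !![ω, 0; 0, ω⁻¹] * !![1, ω; 1, ω ^ 2]
  have h2 : (1 : K) + 1 = 0 := by
    have := two0 (K := K)
    rw [← this]; norm_num
  have h3 : ω⁻¹ = ω ^ 2 := by
    rw [inv_eq_iff_eq_inv, eq_comm, inv_eq_iff_eq_inv]
    field_simp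
    have : ω ^ 3 - 1 = (ω - 1) * (ω ^ 2 + ω + 1) := by ring
    rw [h, mul_zero] at this
    linear_combination this
  have h4 : ω ^ 3 = 1 := by
    have : ω ^ 3 - 1 = (ω - 1) * (ω ^ 2 + ω + 1) := by ring
    rw [h, mul_zero] at this
    linear_combination this
  rw [h3]
  ext i j
  fin_cases i <;> fin_cases j <;> simp [Matrix.mul_apply, Fin.sum_univ_two]
  · linear_combination h2
  · linear_combination h - h2 * ω ^ 2
  · linear_combination h2
  · linear_combination h - h2 * ω - ω * h4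

end SL

section Grp

variable {K : Type} [Field K] [Fintype K] [CharP K 2] (hK : Fintype.card K = 4)

/-- `E₇(4)` -/
abbrev GK (K : Type) [Field K] : Type := ↥(chevE7.group K)

/-- the embedding -/
noncomputable def ε (K : Type) [Field K] [CharP K 2] : G7 →* GK K := emb hp7.inList (ZMod.castHom (dvd_refl 2) K)

theorem ε_inj : Function.Injective (ε K) := emb_injective hp7.inList _

theorem ε_xe (r : ℕ) : ε K (xe r) = xg K hp7.inList r 1 := by
  apply Subtype.ext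
  show Cfsg.Agent.GpExc.Field.glMap chevE7 (ZMod.castHom (dvd_refl 2) K) (xG hp7.inList r 1) = xG hp7.inList r 1
  rw [glMap_xG, map_one]

/-- the three orthogonal nodes -/
def nd : Fin 3 → Fin 7 := ![1, 4, 6]

/-- the three orthogonal roots -/
def rr : Fin 3 → ℕ := ![78, 66, 63]

theorem rr_eq (i : Fin 3) : rr i = chevE7.simple (nd i) := by
  revert i; decide +kernel

theorem rr_lt (i : Fin 3) : rr i < 126 := by
  revert i; decide

/-- the element of `⟨X_r, X_{-r}⟩` -/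
noncomputable def gk {ω : K} (h : ω ^ 2 + ω + 1 = 0) (i : Fin 3) : GK K :=
  ⟨psi hp7.inList K (rr i) (gS h), by
    refine (sup_le ?_ ?_ : chevE7.rootSubgroup K (rr i) ⊔ chevE7.rootSubgroup K (chevE7.neg (rr i)) ≤ chevE7.group K)
      (psi_mem hp7.inList (by rw [nroots_eq]; exact rr_lt i) _)
    · intro x hx
      obtain ⟨t, rfl⟩ := (mem_rootSubgroup_iff hp7.inList _ x).1 hx
      exact xG_mem_group hp7.inList _ t
    · intro x hx
      obtain ⟨t, rfl⟩ := (mem_rootSubgroup_iff hp7.inList _ x).1 hx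
      exact xG_mem_group hp7.inList _ t⟩

theorem gk_conj {ω : K} (h0 : ω ≠ 0) (h : ω ^ 2 + ω + 1 = 0) (i : Fin 3) :
    gk h i * ε K (xe (rr i) * xe (chevE7.neg (rr i))) * (gk h i)⁻¹ = hc hp7 (nd i) ω := by
  rw [map_mul, ε_xe, ε_xe]
  apply Subtype.ext
  show psi hp7.inList K (rr i) (gS h) * (xG hp7.inList (rr i) 1 * xG hp7.inList (chevE7.neg (rr i)) 1) *
    (psi hp7.inList K (rr i) (gS h))⁻¹ = hG hp7.inList (chevE7.simple (nd i)) ω
  have hr : rr i < chevE7.nroots := by rw [nroots_eq]; exact rr_lt i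
  rw [← psi_up hp7.inList hr, ← psi_lo hp7.inList hr, ← map_mul, ← map_mul, ← map_inv, ← map_mul, gS_conj h0 h,
    psi_hS hp7.inList hr, rr_eq]

/-- the two root groups -/
def pm (i : Fin 3) : List ℕ := [rr i, chevE7.neg (rr i)]

theorem pm_lt (i : Fin 3) : ∀ r ∈ pm i, r < 126 := by
  revert i; decide +kernel

theorem xg_mem_GS {L : List ℕ} {r : ℕ} (hr : r ∈ L) (h : r < 126) (t : K) : xg K hp7.inList r t ∈ GS K L := by
  refine X_le_GS K hr ?_
  show xG hp7.inList r t ∈ XV chevE7 7 K (vec chevE7 7 r)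
  rw [XV_vec hp7 K (by rw [nroots_eq]; exact h)]
  exact xG_mem_rootSubgroup hp7.inList r t

theorem gk_mem {ω : K} (h : ω ^ 2 + ω + 1 = 0) (i : Fin 3) : gk h i ∈ GS K (pm i) := by
  have hr : rr i < chevE7.nroots := by rw [nroots_eq]; exact rr_lt i
  have h1 := (sup_le ?_ ?_ : chevE7.rootSubgroup K (rr i) ⊔ chevE7.rootSubgroup K (chevE7.neg (rr i)) ≤
    (GS K (pm i)).map (chevE7.group K).subtype) (psi_mem hp7.inList hr (gS h))
  · obtain ⟨y, hy, hyx⟩ := h1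
    have h2 : y = gk h i := Subtype.ext hyx
    rwa [h2] at hy
  · intro x hx
    obtain ⟨t, rfl⟩ := (mem_rootSubgroup_iff hp7.inList _ x).1 hx
    exact ⟨xg K hp7.inList (rr i) t, xg_mem_GS (by simp [pm]) (rr_lt i) t, rfl⟩
  · intro x hx
    obtain ⟨t, rfl⟩ := (mem_rootSubgroup_iff hp7.inList _ x).1 hx
    exact ⟨xg K hp7.inList (chevE7.neg (rr i)) t, xg_mem_GS (by simp [pm]) (pm_lt i _ (by simp [pm])) t, rfl⟩

/-- the elements of order three -/
def ce (i : Fin 3) : G7 := xe (rr i) * xe (chevE7.neg (rr i))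

theorem ε_ce_mem (i : Fin 3) : ε K (ce i) ∈ GS K (pm i) := by
  rw [ce, map_mul, ε_xe, ε_xe]
  exact mul_mem (xg_mem_GS (by simp [pm]) (rr_lt i) 1) (xg_mem_GS (by simp [pm]) (pm_lt i _ (by simp [pm])) 1)

theorem hc_mem_GS {ω : K} (h0 : ω ≠ 0) (h : ω ^ 2 + ω + 1 = 0) (i : Fin 3) : hc hp7 (nd i) ω ∈ GS K (pm i) := by
  rw [← gk_conj h0 h i]
  exact mul_mem (mul_mem (gk_mem h i) (ε_ce_mem i)) (inv_mem (gk_mem h i))

theorem orth_pm : ∀ i j : Fin 3, i ≠ j → ∀ r ∈ pm j, ∀ s ∈ pm i, bf (rv r) (rv s) = 0 := by decide +kernel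

theorem pm_comm {i j : Fin 3} (hij : i ≠ j) {a b : GK K} (ha : a ∈ GS K (pm i)) (hb : b ∈ GS K (pm j)) :
    a * b = b * a := by
  have h1 := GS_le_centralizer K (pm_lt i) (pm_lt j) (orth_pm i j hij) hb
  exact Subgroup.mem_centralizer_iff.1 h1 a ha

theorem triple {G : Type*} [Group G] {g c h : Fin 3 → G} (h1 : ∀ i, g i * c i * (g i)⁻¹ = h i)
    (h2 : ∀ i j, i ≠ j → g i * c j = c j * g i) (h3 : ∀ i j, i ≠ j → g i * h j = h j * g i) (i : Fin 3) :
    (g 0 * g 1 * g 2) * c i * (g 0 * g 1 * g 2)⁻¹ = h i := by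
  have e2 : ∀ i j, i ≠ j → g i * c j * (g i)⁻¹ = c j := fun i j hij => by rw [h2 i j hij, mul_inv_cancel_right]
  have e3 : ∀ i j, i ≠ j → g i * h j * (g i)⁻¹ = h j := fun i j hij => by rw [h3 i j hij, mul_inv_cancel_right]
  have h4 : (g 0 * g 1 * g 2) * c i * (g 0 * g 1 * g 2)⁻¹ =
    g 0 * (g 1 * (g 2 * c i * (g 2)⁻¹) * (g 1)⁻¹) * (g 0)⁻¹ := by group
  rw [h4]
  fin_cases i
  · show g 0 * (g 1 * (g 2 * c 0 * (g 2)⁻¹) * (g 1)⁻¹) * (g 0)⁻¹ = h 0
    rw [e2 2 0 (by decide), e2 1 0 (by decide), h1]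
  · show g 0 * (g 1 * (g 2 * c 1 * (g 2)⁻¹) * (g 1)⁻¹) * (g 0)⁻¹ = h 1
    rw [e2 2 1 (by decide), h1, e3 0 1 (by decide)]
  · show g 0 * (g 1 * (g 2 * c 2 * (g 2)⁻¹) * (g 1)⁻¹) * (g 0)⁻¹ = h 2
    rw [h1, e3 1 2 (by decide), e3 0 2 (by decide)]

/-- the roots orthogonal to `rr i` -/
def perp (i : Fin 3) : List ℕ := (List.range 126).filter fun r => decide (bf (rv r) (rv (rr i)) = 0)

theorem mem_perp {i : Fin 3} {r : ℕ} : r ∈ perp i ↔ r < 126 ∧ bf (rv r) (rv (rr i)) = 0 := by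
  simp [perp]

theorem cartan_val : ∀ i : Fin 3, ∀ r < 126, bf (rv r) (rv (rr i)) = 0 ∨ chevE7.cartan (nd i) r = 1 ∨
    chevE7.cartan (nd i) r = -1 ∨ chevE7.cartan (nd i) r = 2 ∨ chevE7.cartan (nd i) r = -2 := by decide +kernel

theorem pm_neg (i : Fin 3) : rv (chevE7.neg (rr i)) = - rv (rr i) := rv_neg (rr_lt i)

/-- **the perfect subgroups of the centraliser of a toral element** -/
theorem perfect_le_perp {ω : K} (h0 : ω ≠ 0) (h1 : ω ≠ 1) (h3 : ω ^ 3 = 1) (i : Fin 3) {J : Subgroup (GK K)}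
    (hJC : J ≤ Subgroup.centralizer {hc hp7 (nd i) ω}) (hJ : ⁅J, J⁆ = J) : J ≤ GS K (perp i) := by
  have hω2 : ω ^ 2 ≠ 1 := by
    intro h2
    apply h1
    rw [pow_succ, h2, one_mul] at h3
    exact h3
  have hx : (hc hp7 (nd i) ω : GK K) ^ 3 = 1 := by
    apply Subtype.ext
    show (hG hp7.inList (chevE7.simple (nd i)) ω) ^ 3 = 1
    have hr : rr i < chevE7.nroots := by rw [nroots_eq]; exact rr_lt i
    rw [← rr_eq, ← psi_hS hp7.inList hr, ← map_pow]
    have h4 : (hS ω : Matrix.SpecialLinearGroup (Fin 2) K) ^ 3 = 1 := by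
      apply Subtype.ext
      rw [Matrix.SpecialLinearGroup.coe_pow, coe_hS h0, Matrix.SpecialLinearGroup.coe_one]
      have h5 : (ω⁻¹) ^ 3 = 1 := by rw [inv_pow, h3, inv_one]
      have h6 : (!![ω, 0; 0, ω⁻¹] : Matrix (Fin 2) (Fin 2) K) = Matrix.diagonal ![ω, ω⁻¹] := by
        ext a b
        fin_cases a <;> fin_cases b <;> rfl
      rw [h6, Matrix.diagonal_pow, ← Matrix.diagonal_one]
      congr 1
      funext a
      fin_cases a
      · exact h3
      · exact h5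
    rw [h4, map_one]
  have : Fact (Nat.Prime 2) := ⟨Nat.prime_two⟩
  refine (Cfsg.Agent.BpExc.TorChev.perfect_le (K := K) hp7 cs7 2 (hc_mem hp7 (nd i) h0) Nat.prime_three hx hJC hJ).trans ?_
  refine RGD.Sup_le ?_
  rintro a ⟨ha, h5⟩
  obtain ⟨r, hr, rfl⟩ := (isRoot_iff7 a).1 ha
  rw [ch_hc hp7 (nd i) h0 (by rw [nroots_eq]; exact hr)] at h5
  refine X_le_GS K (mem_perp.2 ⟨hr, ?_⟩)
  rcases cartan_val i r hr with h6 | h6 | h6 | h6 | h6
  · exact h6
  · rw [h6, zpow_one] at h5; exact absurd h5 h1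
  · rw [h6, zpow_neg, zpow_one, inv_eq_one] at h5; exact absurd h5 h1
  · rw [h6, zpow_ofNat] at h5; exact absurd h5 hω2
  · rw [h6, zpow_neg, inv_eq_one, zpow_ofNat] at h5; exact absurd h5 hω2

theorem orth_perp : ∀ i : Fin 3, ∀ r ∈ perp i, ∀ s ∈ pm i, bf (rv r) (rv s) = 0 := by decide +kernel

/-- the six roots -/
def six : List ℕ := [78, 66, 63, 47, 59, 62]

theorem six_pm : ∀ s ∈ six, ∃ i : Fin 3, s ∈ pm i := by decide +kernel

noncomputable instance : Fintype (Cfsg.Agent.Nodes.TypeD.M 2).Group := by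
  have := Cfsg.Agent.Nodes.TypeD.finite_W (n := 2) (Cfsg.Agent.Nodes.TypeD.M 2).toCoxeterSystem
  exact Fintype.ofFinite _

include hK in
theorem card_T7 : Nat.card (T7 K) = 3 ^ 7 := by
  have h2 := Cfsg.Agent.S1035.result (F := K) hK (chevE7, Nat.gcd 2 (4 - 1)) (by simp)
  have h3 : Nat.gcd 2 (4 - 1) * Nat.card (chevE7.diagonalSubgroup K) = (4 - 1) ^ chevE7.rank := h2
  have h4 : (4 - 1 : ℕ) ^ chevE7.rank = 3 ^ 7 := by decide +kernel
  have h5 : Nat.gcd 2 (4 - 1) = 1 := by decide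
  rw [h5, one_mul] at h3
  have h6 : Nat.card (T7 K) = Nat.card (chevE7.diagonalSubgroup K) :=
    Nat.card_congr (Subgroup.subgroupOfEquivOfLe (diagonal_le_group hp7.inList K)).toEquiv
  exact h6.trans (h3.trans h4)

include hK in
theorem card_four : Nat.card ↥(T7 K ⊔ GS K (rts TabDFourB.pcDFourB)) =
    3 ^ 7 * 4 ^ 12 * Cfsg.Agent.H383.Cube.ND 4 4 := by
  have h1 := card_sum K TabDFourB.tab (Cfsg.Agent.Nodes.TypeD.M 2).toCoxeterSystem
    (Cfsg.Agent.Nodes.TypeD.isCartan 2)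
  have h2 : Nat.card K = 4 := by rw [Nat.card_eq_fintype_card, hK]
  have h3 : TabDFourB.pcDFourB.length = 12 := by decide +kernel
  rw [Cfsg.Agent.H475.CoxD.sum_D, h2, card_T7 hK, h3] at h1
  exact h1

theorem not_dvd : ¬ 11 ∣ 3 ^ 7 * 4 ^ 12 * Cfsg.Agent.H383.Cube.ND 4 4 := by decide +kernel

include hK in
/-- **perfect subgroups of `E₇(2)` centralising the three elements** -/
theorem perfect_main {J : Subgroup G7} (hJ : ⁅J, J⁆ = J) (hJc : J ≤ Subgroup.centralizer (Set.range ce)) :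
    ¬ 11 ∣ Nat.card ↥J := by
  obtain ⟨ω, h0, h1, h3, h⟩ := exists_omega hK
  set γ : GK K := gk h 0 * gk h 1 * gk h 2 with hγ
  have key : ∀ i, γ * ε K (ce i) * γ⁻¹ = hc hp7 (nd i) ω := fun i =>
    triple (g := gk h) (c := fun i => ε K (ce i)) (h := fun i => hc hp7 (nd i) ω) (fun i => gk_conj h0 h i)
      (fun i j hij => pm_comm hij (gk_mem h i) (ε_ce_mem j)) (fun i j hij => pm_comm hij (gk_mem h i) (hc_mem_GS h0 h j)) i
  set φ : G7 →* GK K := (MulAut.conj γ).toMonoidHom.comp (ε K) with hφ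
  have hφi : Function.Injective φ := (MulAut.conj γ).injective.comp ε_inj
  have hJ' : ⁅J.map φ, J.map φ⁆ = J.map φ := by rw [← Subgroup.map_commutator, hJ]
  have hC : ∀ i, J.map φ ≤ Subgroup.centralizer {hc hp7 (nd i) ω} := by
    intro i
    rintro _ ⟨j, hj, rfl⟩
    rw [Subgroup.mem_centralizer_singleton_iff, ← key i]
    show γ * ε K j * γ⁻¹ * (γ * ε K (ce i) * γ⁻¹) = γ * ε K (ce i) * γ⁻¹ * (γ * ε K j * γ⁻¹)
    have h5 : j * ce i = ce i * j := (Subgroup.mem_centralizer_iff.1 (hJc hj) (ce i) ⟨i, rfl⟩).symm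
    have h6 : ε K j * ε K (ce i) = ε K (ce i) * ε K j := by rw [← map_mul, h5, map_mul]
    calc γ * ε K j * γ⁻¹ * (γ * ε K (ce i) * γ⁻¹) = γ * (ε K j * ε K (ce i)) * γ⁻¹ := by group
      _ = γ * (ε K (ce i) * ε K j) * γ⁻¹ := by rw [h6]
      _ = _ := by group
  have h7 : ∀ i, J.map φ ≤ Subgroup.centralizer (GS K (pm i) : Set (GK K)) := fun i =>
    (perfect_le_perp h0 h1 h3 i (hC i) hJ').trans
      (GS_le_centralizer K (pm_lt i) (fun r hr => (mem_perp.1 hr).1) (orth_perp i))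
  have h8 : J.map φ ≤ Subgroup.centralizer (GS K six : Set (GK K)) := by
    rw [Subgroup.le_centralizer_iff]
    refine GS_le K fun s hs => ?_
    obtain ⟨i, hi⟩ := six_pm s hs
    rw [Subgroup.le_centralizer_iff]
    exact (h7 i).trans (Subgroup.centralizer_le (X_le_GS K hi))
  have h9 : J.map φ ≤ T7 K ⊔ GS K (rts TabDFourB.pcDFourB) := by
    intro g hg
    exact cent_le K (L := six) (by decide +kernel) (by decide +kernel) (h8 hg)
  have h10 : Nat.card ↥J = Nat.card ↥(J.map φ) := (Subgroup.card_map_of_injective hφi).symm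
  rw [h10]
  intro h11
  have h12 := h11.trans (Subgroup.card_dvd_of_le h9)
  rw [card_four hK] at h12
  exact not_dvd h12

end Grp

end Cfsg.Agent.R2.H27S.FFour
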