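import Mathlib
import Cfsg.Agent.R2.H27S.FFour
import Cfsg.Agent.R2.H27S.Cube
import Cfsg.Agent.R2.H27S.Conj
import Cfsg.Agent.R2.H27S.BoxThree

/-!
# Box S8 of S5934: `(S₃³ × Ω₈⁺(2)):3`
-/

set_option autoImplicit false
set_option linter.unusedSectionVars false

namespace Cfsg.Agent.R2.H27S.BoxEight

open CoxeterSystem Cfsg.Agent.ChevalleyStructure.CoxeterGeom Cfsg.Agent.Tits.Roots Cfsg.Agent.Tits.Core
open Cfsg.Lie Cfsg.Agent.ChevalleyStructure Cfsg.Agent.ChevalleyStructure.Elts Cfsg.Agent.Nodes.RGDChev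
open Cfsg.Agent.H904.E7Lat Cfsg.Agent.H904.E7Form Cfsg.Agent.H904.E7Main
open Cfsg.Agent.ChevalleyStructure.SL2Hom (up lo)
open Cfsg.Agent.Nodes.RGDFoldSL
open Cfsg.Agent.R2.H27 (G7 BoxS8 oO8)
open Cfsg.Agent.R2.H27S.ESeven Cfsg.Agent.R2.H27S.FTwo Cfsg.Agent.R2.H27S.Wel Cfsg.Agent.R2.H27S.Tab
  Cfsg.Agent.R2.H27S.Cart Cfsg.Agent.R2.H27S.Conj Cfsg.Agent.R2.H27S.Cube Cfsg.Agent.R2.H27S.FFour
  Cfsg.Agent.H129.FE

theorem up_lo : (up 1 * lo 1 * up 1 : Matrix.SpecialLinearGroup (Fin 2) F2) = lo 1 * up 1 * lo 1 := by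
  apply Subtype.ext
  show ((!![1, 1; 0, 1] : Matrix (Fin 2) (Fin 2) F2) * !![1, 0; 1, 1]) * !![1, 1; 0, 1] =
    (!![1, 0; 1, 1] * !![1, 1; 0, 1]) * !![1, 0; 1, 1]
  decide

/-- the braid relation -/
theorem xe_br {r : ℕ} (hr : r < 126) : xe r * xe (chevE7.neg r) * xe r = xe (chevE7.neg r) * xe r * xe (chevE7.neg r) := by
  apply Subtype.ext
  show xG hp7.inList r 1 * xG hp7.inList (chevE7.neg r) 1 * xG hp7.inList r 1 =
    xG hp7.inList (chevE7.neg r) 1 * xG hp7.inList r 1 * xG hp7.inList (chevE7.neg r) (1 : F2)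
  have h : r < chevE7.nroots := by rw [nroots_eq]; exact hr
  rw [← psi_up hp7.inList h, ← psi_lo hp7.inList h, ← map_mul, ← map_mul, ← map_mul, ← map_mul, up_lo]

theorem ne_tab : ∀ i : Fin 3, ∃ s ∈ List.range 126, s ≠ rr i ∧ s ≠ chevE7.neg (rr i) ∧
    s ≠ chevE7.neg (chevE7.neg (rr i)) ∧ ct chevE7 (chevE7.neg (rr i)) s = [] ∧
    ∃ q ∈ List.range 126, ct chevE7 (rr i) s = [(q, 1)] ∨ ct chevE7 (rr i) s = [(q, -1)] := by decide +kernel

theorem xe_ne (i : Fin 3) : xe (rr i) ≠ xe (chevE7.neg (rr i)) := by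
  intro h
  obtain ⟨s, hs, h1, h2, h3, h4, q, hq, h5⟩ := ne_tab i
  rw [List.mem_range] at hs hq
  have h6 : Commute (xe (rr i)) (xe s) := by
    rw [h]
    exact xe_comm (neg_lt7 _ (rr_lt i)) hs h2 h3 h4
  have h7 : xe s * xe (rr i) = xe (rr i) * xe s * xe q := by
    have e1 : ((1 : ℤ) : F2) = 1 := by decide
    have e2 : ((-1 : ℤ) : F2) = 1 := by decide
    rcases h5 with h5 | h5
    · exact xe_swap (q := (q, 1)) (rr_lt i) hs h1 h2 h5 e1
    · exact xe_swap (q := (q, -1)) (rr_lt i) hs h1 h2 h5 e2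
  rw [h6.eq] at h7
  exact xe_ne_one hq (mul_eq_left.1 h7.symm)

theorem comm_tab : ∀ i j : Fin 3, i ≠ j → ∀ r ∈ pm i, ∀ s ∈ pm j, s ≠ r ∧ s ≠ chevE7.neg r ∧ ct chevE7 r s = [] := by
  decide +kernel

theorem pm_comm' {i j : Fin 3} (hij : i ≠ j) {r s : ℕ} (hr : r ∈ pm i) (hs : s ∈ pm j) : Commute (xe r) (xe s) := by
  obtain ⟨h1, h2, h3⟩ := comm_tab i j hij r hr s hs
  exact xe_comm (pm_lt i r hr) (pm_lt j s hs) h1 h2 h3

theorem cube : IsCube (fun i => xe (rr i)) (fun i => xe (chevE7.neg (rr i))) where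
  xx i := xe_mul _
  yy i := xe_mul _
  br i := xe_br (rr_lt i)
  ne i := xe_ne i
  cxx i j hij := pm_comm' hij (by simp [pm]) (by simp [pm])
  cxy i j hij := pm_comm' hij (by simp [pm]) (by simp [pm])
  cyy i j hij := pm_comm' hij (by simp [pm]) (by simp [pm])

/-- `Ω₈⁺(2)` -/
abbrev X8 : Subgroup G7 := GS F2 (rts TabDFourB.pcDFourB)

/-- `S₃³` -/
abbrev C8 : Subgroup G7 := GS F2 (rts TabTOneB.pcTOneB)

theorem connD4 : ∀ s : Finset (Fin 4), s.Nonempty → s ≠ Finset.univ →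
    ∃ a ∈ s, ∃ b, b ∉ s ∧ Cfsg.Agent.Nodes.TypeD.A 2 a b ≠ 0 := by decide +kernel

theorem simpleX : IsSimpleGroup ↥X8 :=
  simple F2 TabDFourB.tab (Cfsg.Agent.Nodes.TypeD.M 2).toCoxeterSystem (Cfsg.Agent.Nodes.TypeD.isCartan 2) hF
    (conn_of_cartan (Cfsg.Agent.Nodes.TypeD.isCartan 2) connD4) (by decide +kernel)

theorem cardX : Nat.card ↥X8 = oO8 := by
  have h1 := card_sum F2 TabDFourB.tab (Cfsg.Agent.Nodes.TypeD.M 2).toCoxeterSystem
    (Cfsg.Agent.Nodes.TypeD.isCartan 2)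
  rw [BoxThree.sup_eq, BoxThree.card_T, hN, Cfsg.Agent.H475.CoxD.sum_D] at h1
  rw [h1]
  decide +kernel

theorem cardC : Nat.card ↥C8 = 2 ^ 3 * 3 ^ 3 := by
  have := BoxThree.finite_W_of TabTOneB.tab (slM (cO 3) (cO_symm 3)).toCoxeterSystem (isCartan_O 3)
  have h1 := card_orth F2 TabTOneB.tab (slM (cO 3) (cO_symm 3)).toCoxeterSystem (isCartan_O 3)
    (fun i j hij => by simp [cO, hij])
  rw [BoxThree.sup_eq, BoxThree.card_T, hN] at h1
  rw [h1]
  decide +kernel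

theorem centX : Subgroup.centralizer (X8 : Set G7) = C8 :=
  cent_eq F2 hF (by decide +kernel) (by decide +kernel) (by decide +kernel)

theorem mem_tab : ∀ r ∈ rts TabTOneB.pcTOneB, ∃ i : Fin 3, r = rr i ∨ r = chevE7.neg (rr i) := by decide +kernel

theorem mem_tab' : ∀ i : Fin 3, rr i ∈ rts TabTOneB.pcTOneB ∧ chevE7.neg (rr i) ∈ rts TabTOneB.pcTOneB := by
  decide +kernel

theorem C_eq : C8 = Subgroup.closure (Set.range (fun i => xe (rr i)) ∪ Set.range fun i => xe (chevE7.neg (rr i))) := by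
  apply le_antisymm
  · refine GS_le F2 fun r hr => ?_
    obtain ⟨i, hi⟩ := mem_tab r hr
    rcases hi with hi | hi
    · rw [hi, X7_eq_zpowers (rr_lt i), Subgroup.zpowers_le]
      exact Subgroup.subset_closure (Or.inl ⟨i, rfl⟩)
    · rw [hi, X7_eq_zpowers (neg_lt7 _ (rr_lt i)), Subgroup.zpowers_le]
      exact Subgroup.subset_closure (Or.inr ⟨i, rfl⟩)
  · rw [Subgroup.closure_le]
    rintro _ (⟨i, rfl⟩ | ⟨i, rfl⟩)
    · exact xe_mem_GS (mem_tab' i).1 (rr_lt i)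
    · exact xe_mem_GS (mem_tab' i).2 (neg_lt7 _ (rr_lt i))

theorem inf_centralizer {G : Type*} [Group G] [Finite G] {X : Subgroup G} (hX : IsSimpleGroup ↥X)
    (hp : ¬ (Nat.card X).Prime) : X ⊓ Subgroup.centralizer (X : Set G) = ⊥ := by
  have h1 : Subgroup.center X = ⊥ ∨ Subgroup.center X = ⊤ :=
    hX.eq_bot_or_eq_top_of_normal _ inferInstance
  rcases h1 with h1 | h1
  · rw [eq_bot_iff]
    rintro x ⟨hx1, hx2⟩
    have h2 : (⟨x, hx1⟩ : X) ∈ Subgroup.center X := by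
      rw [Subgroup.mem_center_iff]
      intro y
      exact Subtype.ext (Subgroup.mem_centralizer_iff.1 hx2 y y.2)
    rw [h1, Subgroup.mem_bot] at h2
    exact Subgroup.mem_bot.2 (congrArg Subtype.val h2)
  · exfalso
    apply hp
    let _ : CommGroup X := Group.commGroupOfCenterEqTop h1
    exact IsSimpleGroup.prime_card

/-- the word of `τ` -/
def wL : List ℕ := [3, 4, 5, 6, 1, 3, 4, 5]

theorem wL_rr : ∀ i : Fin 3, act wL (rr i) = rr (i + 1) ∧ act wL (chevE7.neg (rr i)) = chevE7.neg (rr (i + 1)) := by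
  decide +kernel

theorem wL_X : ∀ r ∈ rts TabDFourB.pcDFourB, r < 126 ∧ act wL r < 126 ∧ act wL r ∈ rts TabDFourB.pcDFourB := by
  decide +kernel

theorem mem_normalizer_of {G : Type*} [Group G] [Finite G] {X : Subgroup G} {n : G}
    (h : ∀ x ∈ X, n * x * n⁻¹ ∈ X) : n ∈ Subgroup.normalizer (X : Set G) := by
  have h1 : X.map (MulAut.conj n).toMonoidHom ≤ X := by
    rintro _ ⟨x, hx, rfl⟩
    exact h x hx
  have h2 : X.map (MulAut.conj n).toMonoidHom = X := by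
    apply Subgroup.eq_of_le_of_card_ge h1
    rw [Subgroup.card_map_of_injective (MulAut.conj n).injective]
  rw [Subgroup.mem_normalizer_iff]
  intro x
  refine ⟨h x, fun hx => ?_⟩
  have h3 : n * x * n⁻¹ ∈ X.map (MulAut.conj n).toMonoidHom := by rw [h2]; exact hx
  obtain ⟨y, hy, hyx⟩ := h3
  have h4 : n * y * n⁻¹ = n * x * n⁻¹ := hyx
  have h5 : y = x := by simpa using h4
  rw [← h5]
  exact hy

/-- **Box S8** -/
theorem boxS8 : BoxS8 := by
  obtain ⟨w, τ, h1, h2, h3⟩ := exists_rep wL (by decide)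
  have hτX : τ ∈ Subgroup.normalizer (X8 : Set G7) :=
    mem_normalizer_of fun x hx => conj_mem_GS h3 wL_X hx
  have hτc : ∀ i : Fin 3, τ * (xe (rr i) * xe (chevE7.neg (rr i))) * τ⁻¹ =
      xe (rr (i + 1)) * xe (chevE7.neg (rr (i + 1))) := by
    intro i
    have h4 := h3 _ (rr_lt i)
    have h5 := h3 _ (neg_lt7 _ (rr_lt i))
    rw [(wL_rr i).1] at h4
    rw [(wL_rr i).2] at h5
    rw [← h4, ← h5]
    group
  have hd : X8 ⊓ C8 = ⊥ := by
    rw [← centX]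
    refine inf_centralizer simpleX ?_
    rw [cardX]
    unfold oO8
    norm_num
  have hcube := cube
  have hCe : Subgroup.closure (Set.range ce) = Subgroup.closure (Set.range fun i => xe (rr i) * xe (chevE7.neg (rr i))) := rfl
  have hceC : ∀ i, ce i ∈ C8 := fun i =>
    mul_mem (xe_mem_GS (mem_tab' i).1 (rr_lt i)) (xe_mem_GS (mem_tab' i).2 (neg_lt7 _ (rr_lt i)))
  refine ⟨X8, Subgroup.normalizer (X8 : Set G7), ce, fun i => xe (rr i), τ, simpleX, cardX, ?_, Subgroup.le_normalizer,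
    Subgroup.centralizer_le_normalizer _, hτX, le_refl _, ?_, ?_, ?_, ?_, ?_, ?_⟩
  · rw [centX]; exact cardC
  · have h4 := hcube.dvd_normalizer centX hd C_eq hτX hτc
    rw [cardX, cardC] at h4
    refine Dvd.dvd.trans ?_ h4
    unfold oO8
    norm_num
  · intro i
    rw [centX]
    exact ⟨hcube.orderOf_c i, hcube.x_conj i, hceC i, xe_mem_GS (mem_tab' i).1 (rr_lt i), hτc i⟩
  · intro i j hij
    exact ⟨hcube.cc hij, hcube.tc hij⟩
  · intro P hP _ hPC
    rw [centX] at hPC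
    exact hcube.le_of_isPGroup C_eq cardC hP hPC
  · exact hcube.card_closure
  · intro J hJ hJc
    have : Fintype (GaloisField 2 2) := Fintype.ofFinite _
    refine perfect_main (K := GaloisField 2 2) ?_ hJ hJc
    rw [← Nat.card_eq_fintype_card, GaloisField.card 2 2 (by norm_num)]
    norm_num

end Cfsg.Agent.R2.H27S.BoxEight
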