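import Mathlib
import Cfsg.Agent.Nodes.Sub
import Cfsg.Agent.Nodes.CardSup
import Cfsg.Agent.KFacts.RgdSL
import Cfsg.Agent.UGT.U2.FOne.QsRGD
import Cfsg.Agent.H589.FF.Deg
import Cfsg.Agent.H35.Poin

/-!
# Groups generated by the root groups of a subsystem, trivial torus (S5934, box S)

* `perfect`, `isSimple`, `card_G` : a group with a simply laced root group datum with trivial torus;
* `HS` : the group of a subsystem, `rgd_HS` : its root group datum.
-/

set_option autoImplicit false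
set_option linter.unusedSectionVars false
set_option linter.dupNamespace false

namespace Cfsg.Agent.R2.H27S.Gen

open CoxeterSystem Cfsg.Agent.ChevalleyStructure.CoxeterGeom Cfsg.Agent.Tits.Roots Cfsg.Agent.Tits.Core
  Cfsg.Agent.Tits.RootComb Cfsg.Agent.Tits.Exchange Cfsg.Agent.Nodes.Comb Cfsg.Agent.Nodes.Reps
  Cfsg.Agent.Nodes.BNOf Cfsg.Agent.Nodes.StabComb Cfsg.Agent.Nodes.Bruhat Cfsg.Agent.Nodes.OppDec
  Cfsg.Agent.Nodes.LeviDec Cfsg.Agent.Nodes.SubComb Cfsg.Agent.Nodes.Coroot Cfsg.Agent.Nodes.RGDLib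
  Cfsg.Agent.Nodes.Sub Cfsg.Agent.KFacts.RgdSL
open scoped commutatorElement

section Whole

variable {I W Y : Type*} [Fintype I] [DecidableEq I] [Group W] [Group Y] {M : CoxeterMatrix I}
  {cs : CoxeterSystem M W} {A : I → I → ℤ} {h : IsCartan M A} {p : ℕ} {T : Subgroup Y} {n : I → Y}
  {X : (I → ℤ) → Subgroup Y}

variable [Finite W] (R : RGD cs h p T n X)

include R

theorem GG_top (hG : G1 cs h X = ⊤) : GG cs h T X = ⊤ := by
  rw [eq_top_iff, ← hG]
  exact le_sup_right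

theorem perfect (hG : G1 cs h X = ⊤) (hs : SL cs h) (hadj : ∀ i, ∃ j, A j i = -1) : commutator Y = ⊤ := by
  rw [eq_top_iff, ← hG]
  refine RGD.Sup_le fun x hx => ?_
  obtain ⟨w, i, rfl⟩ := hx
  obtain ⟨j, hj⟩ := hadj i
  have hi := isRoot_sr cs h i
  have hjr := isRoot_sr cs h j
  have h1 : cpr cs h (sr i) (sr j) = -1 := by rw [cpr_sr, sr, pairing_single, hj, mul_one]
  have h2 : IsRoot cs h (sr i + sr j) := isRoot_add hi hjr h1
  have h3 : cpr cs h (sr i + sr j) (-sr j) = -1 := by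
    rw [cpr_neg_right cs h _ hjr, cpr_add cs h _ _ hjr, h1, cpr_self cs h hjr]; norm_num
  have h4 : cpr cs h (rep cs h w (sr i + sr j)) (rep cs h w (-sr j)) = -1 := by
    rw [cpr_rep cs h w _ hjr.neg, h3]
  have hA := hs.a2 (h2.act w) (hjr.neg.act w) h4
  have e : rep cs h w (sr i + sr j) + rep cs h w (-sr j) = rep cs h w (sr i) := by
    rw [← map_add]; congr 1; abel
  intro g hg
  rw [← e] at hg
  obtain ⟨⟨u, hu⟩, hu1⟩ := (Subgroup.ne_bot_iff_exists_ne_one).1 (X_ne_bot R (h2.act w))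
  obtain ⟨v, hv, rfl⟩ := hA.comm_surj R hu (fun h0 => hu1 (Subtype.ext h0)) hg
  rw [commutator_def]
  exact Subgroup.commutator_mem_commutator (Subgroup.mem_top _) (Subgroup.mem_top _)

/-- A group generated by the root groups of an irreducible datum with trivial torus is simple if it is perfect. -/
theorem isSimple [Finite Y] [Nonempty I] [Fact p.Prime] (hG : G1 cs h X = ⊤)
    (hconn : ∀ J : Set I, J.Nonempty → J ≠ Set.univ → ∃ a ∈ J, ∃ b, b ∉ J ∧ M a b ≠ 2)
    (hT : T = ⊥) (hperf : commutator Y = ⊤) : IsSimpleGroup Y := by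
  have hgen := rgd_gen_of_G1 R hG
  have hsol : Group.IsSolvable T := by
    subst hT
    infer_instance
  have hnt : Nontrivial Y := by
    obtain ⟨i⟩ := (inferInstance : Nonempty I)
    obtain ⟨u, -, hu1⟩ := exists_ne_one R i
    exact ⟨⟨u, 1, hu1⟩⟩
  refine ⟨fun H hH => ?_⟩
  rcases Cfsg.Agent.UGT.U2.FOne.QsRGD.eq_top_or_le_B (R.bnPair hgen) (R.bnPair_irreducible hgen hconn)
      (Cfsg.Agent.FixBN.FieldRGD.isSolvable_B R hsol) hperf H with h1 | h1
  · exact Or.inr h1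
  · left
    have hTH : H ≤ T := by
      obtain ⟨k, hk⟩ := exists_rp cs R.nsys (w0 cs)
      have h2 : H ≤ BN cs h T X := by
        rw [← cj_B R hk]
        intro x hx
        have h2 : k⁻¹ * x * k ∈ H := by
          have := hH.conj_mem x hx k⁻¹
          rwa [inv_inv] at this
        have h3 : k * (k⁻¹ * x * k) * k⁻¹ ∈ cj k (RGD.B cs h T X) := conj_mem_cj.2 (h1 h2)
        have h4 : k * (k⁻¹ * x * k) * k⁻¹ = x := by group
        rwa [h4] at h3
      exact (le_inf h1 h2).trans (B_inf_BN R).le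
    rw [hT] at hTH
    exact le_bot_iff.1 hTH

theorem closed_pos {s : Finset (I → ℤ)} (hs : (s : Set (I → ℤ)) = RGD.Pos cs h) :
    Cfsg.Agent.Nodes.Unique.Closed cs h (s : Set (I → ℤ)) := by
  rw [hs]
  intro x hx y hy z hz
  exact ⟨hz.1, btwn_nonneg hz hx.2 hy.2⟩

theorem card_U [Finite Y] {q : ℕ} (hX : ∀ i, Nat.card (X (sr i)) = q) :
    Nat.card (RGD.Sup X (RGD.Pos cs h)) = q ^ (RGD.Pos cs h).ncard := by
  classical
  have hfin : (RGD.Pos cs h).Finite := (RGD.finite_roots (cs := cs) (h := h)).subset fun x hx => hx.1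
  have h1 := Cfsg.Agent.Nodes.CardSup.card_sup R (s := hfin.toFinset) (by rw [hfin.coe_toFinset])
    (closed_pos R hfin.coe_toFinset)
  rw [hfin.coe_toFinset] at h1
  rw [h1, Finset.prod_congr rfl (g := fun _ => q), Finset.prod_const, Set.ncard_eq_toFinset_card _ hfin]
  intro x hx
  obtain ⟨w, i, rfl⟩ := ((hfin.mem_toFinset).1 hx).1
  rw [Cfsg.Agent.Nodes.CardSup.card_X_rep R w (isRoot_sr cs h i), hX]

theorem card_B [Finite Y] {q : ℕ} (hX : ∀ i, Nat.card (X (sr i)) = q) :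
    Nat.card (RGD.B cs h T X) = Nat.card T * q ^ (RGD.Pos cs h).ncard := by
  rw [← card_U R hX, mul_comm]
  refine Cfsg.Agent.Nodes.CardSup.card_mul_of_disjoint (A := RGD.Sup X (RGD.Pos cs h)) (B := T)
    RGD.U_le_B RGD.T_le_B (fun g hg => ?_) ?_
  · obtain ⟨t, ht, u, hu, rfl⟩ := R.mem_B.1 hg
    refine ⟨t * u * t⁻¹, (Subgroup.mem_normalizer_iff.1 (R.T_le_normalizer_U ht) u).1 hu, t, ht, by group⟩
  · exact U_inf_T R

theorem card_G [Finite Y] [Fintype W] (hG : GG cs h T X = ⊤) {q : ℕ} (hX : ∀ i, Nat.card (X (sr i)) = q) :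
    Nat.card Y = Nat.card T * q ^ (RGD.Pos cs h).ncard * ∑ w : W, q ^ cs.length w := by
  rw [← card_B R hX]
  have h1 := Cfsg.Agent.H589.FF.card_Y R hG hX
  exact_mod_cast h1

/-- the order, through the order of `P_I` -/
theorem card_G' (hG : GG cs h T X = ⊤) : Nat.card Y = Nat.card ↥(PJ cs h T X Set.univ) := by
  have h1 : PJ cs h T X Set.univ = ⊤ := by
    rw [eq_top_iff, ← hG, ← LJ_univ]
    exact LJ_le_PJ
  rw [h1, Subgroup.card_top]

theorem card_PJ_empty : Nat.card ↥(PJ cs h T X ∅) = Nat.card (RGD.B cs h T X) := by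
  have h1 : PJ cs h T X ∅ = RGD.B cs h T X := by
    apply le_antisymm
    · refine sup_le (sup_le RGD.T_le_B (RGD.Sup_le fun x hx => ?_)) (VJ_le_B _)
      exfalso
      exact hx.1.ne_zero (funext fun k => hx.2 k (Set.notMem_empty k))
    · exact B_le_PJ
  rw [h1]

end Whole

end Cfsg.Agent.R2.H27S.Gen
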