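import Mathlib
import Cfsg.Agent.R2.H27S.Gen

/-!
# The group of a subsystem (S5934, box S)

* `cpr_iota`, `sl_sub` : Cartan numbers of a subsystem;
* `hint_of_SL` : the commutator relations of a simply laced datum are integral;
* `HS` : the group generated by `T₀` and the root groups of a subsystem; `rgd_HS`, `G1_HS`, `GG_HS`;
* `simple_HS`, `card_HS`.
-/

set_option autoImplicit false
set_option linter.unusedSectionVars false
set_option linter.dupNamespace false

namespace Cfsg.Agent.R2.H27S.SubG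

open CoxeterSystem Cfsg.Agent.ChevalleyStructure.CoxeterGeom Cfsg.Agent.Tits.Roots Cfsg.Agent.Tits.Core
  Cfsg.Agent.Tits.RootComb Cfsg.Agent.Tits.Exchange Cfsg.Agent.Nodes.Comb Cfsg.Agent.Nodes.Reps
  Cfsg.Agent.Nodes.BNOf Cfsg.Agent.Nodes.StabComb Cfsg.Agent.Nodes.Bruhat Cfsg.Agent.Nodes.OppDec
  Cfsg.Agent.Nodes.LeviDec Cfsg.Agent.Nodes.SubComb Cfsg.Agent.Nodes.Coroot Cfsg.Agent.Nodes.RGDLib
  Cfsg.Agent.Nodes.Sub Cfsg.Agent.KFacts.RgdSL Cfsg.Agent.R2.H27S.Gen
open scoped commutatorElement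

variable {I W J W' Y : Type*} [Fintype I] [DecidableEq I] [Group W] {M : CoxeterMatrix I}
  {cs : CoxeterSystem M W} {A : I → I → ℤ} {h : IsCartan M A}
  [Fintype J] [DecidableEq J] [Group W'] {M' : CoxeterMatrix J} {cs' : CoxeterSystem M' W'} {A' : J → J → ℤ}
  {h' : IsCartan M' A'} [Group Y] {p : ℕ} {T : Subgroup Y} {n : I → Y} {X : (I → ℤ) → Subgroup Y}
  {β : J → I → ℤ} {w : J → W} {i : J → I}

/-! ### Combinatorics -/

section Comb

variable [Finite W] (S : SubSys cs h A' β w i)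

include S

variable (cs' h') in
theorem cpr_iota {c d : J → ℤ} (hd : IsRoot cs' h' d) :
    cpr cs h (iota β c) (iota β d) = cpr cs' h' c d := by
  have : Finite W' := S.finite cs' h'
  obtain ⟨v, j, rfl⟩ := hd
  rw [cpr_rep_sr, ← S.rep_phi cs' h', iota_sr]
  have h1 : iota β c = rep cs h (S.phi cs' h' v) (iota β (rep cs' h' v⁻¹ c)) := by
    rw [S.rep_phi cs' h', rep_apply_inv]
  rw [h1, cpr_rep cs h _ _ (S.isRoot_beta j)]
  conv_lhs => rw [S.eq j]
  rw [cpr_rep_sr, ← S.fn_iota, fn_apply]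

variable (cs' h') in
theorem sl_sub (hs : SL cs h) : SL cs' h' := by
  intro x y hx hy
  rw [← cpr_iota cs' h' S hy, ← cpr_iota cs' h' S hx]
  exact hs _ _ (S.isRoot_iota hx) (S.isRoot_iota hy)

end Comb

/-- The commutator relations of a simply laced datum are integral. -/
theorem hint_of_SL [Finite W] (R : RGD cs h p T n X) (hs : SL cs h) : ∀ x y, IsRoot cs h x → IsRoot cs h y → x ≠ y →
    x ≠ -y → ∀ a ∈ X x, ∀ b ∈ X y,
      ⁅a, b⁆ ∈ ⨆ z : {z : I → ℤ // IsRoot cs h z ∧ ∃ a b : ℤ, 0 < a ∧ 0 < b ∧ z = a • x + b • y}, X z.1 := by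
  intro x y hx hy hxy hxy' a ha b hb
  refine (?_ : btw cs h X x y ≤ _) (R.comm x y hx hy hxy hxy' a ha b hb)
  unfold Cfsg.Agent.Nodes.Reps.btw
  refine iSup_le ?_
  rintro ⟨z, hz⟩
  have h1 := (hs.btwn hx hy hxy hxy' hz).2
  exact le_iSup (fun z : {z : I → ℤ // IsRoot cs h z ∧ ∃ a b : ℤ, 0 < a ∧ 0 < b ∧ z = a • x + b • y} => X z.1)
    ⟨z, hz.1, 1, 1, one_pos, one_pos, by rw [one_smul, one_smul]; exact h1⟩

/-! ### The group -/

variable (cs' h' T X β) in
/-- The group generated by `T` and the root groups of a subsystem. -/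
def HS : Subgroup Y := T ⊔ RGD.Sup X {x | ∃ c, IsRoot cs' h' c ∧ x = iota β c}

theorem X_le_HS {c : J → ℤ} (hc : IsRoot cs' h' c) : X (iota β c) ≤ HS cs' h' T X β :=
  le_trans (RGD.le_Sup (S := {x | ∃ c, IsRoot cs' h' c ∧ x = iota β c}) ⟨c, hc, rfl⟩) le_sup_right

theorem T_le_HS : T ≤ HS cs' h' T X β := le_sup_left

section Grp

variable [Finite W] (R : RGD cs h p T n X) (hs : SL cs h) (S : SubSys cs h A' β w i)
  (hbase : ∀ c, IsRoot cs h (iota β c) → 0 ≤ c ∨ c ≤ 0)

include R hs S hbase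

theorem exists_rgd_HS : ∃ (n' : J → ↥(HS cs' h' T X β)),
    (∀ j, Rp cs R.nsys (rfl' cs (w j) (i j)) (n' j : Y)) ∧
    RGD cs' h' p (T.subgroupOf (HS cs' h' T X β)) n' (fun c => (X (iota β c)).subgroupOf (HS cs' h' T X β)) := by
  have hfin : Finite W' := S.finite cs' h'
  choose g hg using fun j => exists_rp cs R.nsys (w j)
  have R' := rgd_sub (cs' := cs') (h' := h') R S (comm_of_int (cs' := cs') (h' := h') S (hint_of_SL R hs) hbase) hg
  have hn : ∀ j, g j * n (i j) * (g j)⁻¹ ∈ HS cs' h' T X β := by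
    intro j
    have h1 := n_mem_LJ R' (J := Set.univ) (Set.mem_univ j)
    refine (?_ : LJ cs' h' T (fun c => X (iota β c)) Set.univ ≤ _) h1
    exact sup_le T_le_HS (RGD.Sup_le fun c hc => X_le_HS hc.1)
  refine ⟨fun j => ⟨g j * n (i j) * (g j)⁻¹, hn j⟩, fun j => rp_rfl' (hg j) (i j), ?_⟩
  exact rgd_restrict R' (HS cs' h' T X β) (fun c hc => X_le_HS hc) hn

omit [Finite W] R hs S hbase in
theorem GG_HS : GG cs' h' (T.subgroupOf (HS cs' h' T X β)) (fun c => (X (iota β c)).subgroupOf (HS cs' h' T X β)) = ⊤ := by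
  rw [eq_top_iff]
  have h1 : HS cs' h' T X β ≤ (GG cs' h' (T.subgroupOf (HS cs' h' T X β))
      (fun c => (X (iota β c)).subgroupOf (HS cs' h' T X β))).map (HS cs' h' T X β).subtype := by
    refine sup_le ?_ (RGD.Sup_le ?_)
    · intro t ht
      exact ⟨⟨t, T_le_HS ht⟩, T_le_GG ht, rfl⟩
    · rintro _ ⟨c, hc, rfl⟩ u hu
      exact ⟨⟨u, X_le_HS hc hu⟩, X_le_GG (X := fun c => (X (iota β c)).subgroupOf (HS cs' h' T X β)) hc hu, rfl⟩
  rintro ⟨g, hg⟩ -
  obtain ⟨g', hg', e⟩ := h1 hg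
  have : g' = ⟨g, hg⟩ := Subtype.ext e
  rwa [← this]

omit [Finite W] R hs S hbase in
theorem G1_HS (hT : T = ⊥) : G1 cs' h' (fun c => (X (iota β c)).subgroupOf (HS cs' h' T X β)) = ⊤ := by
  rw [← GG_HS (cs' := cs') (h' := h') (T := T) (X := X) (β := β)]
  unfold GG G1
  have h1 : T.subgroupOf (HS cs' h' T X β) = ⊥ := by
    subst hT
    exact Subgroup.bot_subgroupOf _
  rw [h1, bot_sup_eq]

/-- **Simplicity of the group of a subsystem.** -/
theorem simple_HS [Finite Y] [Nonempty J] [Fact p.Prime] (hT : T = ⊥)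
    (hconn : ∀ K : Set J, K.Nonempty → K ≠ Set.univ → ∃ a ∈ K, ∃ b, b ∉ K ∧ M' a b ≠ 2)
    (hadj : ∀ i, ∃ j, A' j i = -1) : IsSimpleGroup ↥(HS cs' h' T X β) := by
  have : Finite W' := S.finite cs' h'
  obtain ⟨n', -, R'⟩ := exists_rgd_HS (cs' := cs') (h' := h') R hs S hbase
  have hG := G1_HS (cs' := cs') (h' := h') (X := X) (β := β) hT
  have hT' : T.subgroupOf (HS cs' h' T X β) = ⊥ := by
    subst hT
    exact Subgroup.bot_subgroupOf _
  exact isSimple R' hG hconn hT' (perfect R' hG (sl_sub cs' h' S hs) hadj)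

theorem card_HS [Finite Y] [Fintype W'] {q : ℕ} (hX : ∀ x, IsRoot cs h x → Nat.card (X x) = q) :
    Nat.card ↥(HS cs' h' T X β) = Nat.card T * q ^ (RGD.Pos cs' h').ncard * ∑ w : W', q ^ cs'.length w := by
  obtain ⟨n', -, R'⟩ := exists_rgd_HS (cs' := cs') (h' := h') R hs S hbase
  have h1 : Nat.card (T.subgroupOf (HS cs' h' T X β)) = Nat.card T :=
    Nat.card_congr (Subgroup.subgroupOfEquivOfLe T_le_HS).toEquiv
  rw [← h1]
  refine card_G R' GG_HS fun j => ?_
  rw [← hX _ (S.isRoot_iota (isRoot_sr cs' h' j))]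
  exact Nat.card_congr (Subgroup.subgroupOfEquivOfLe (X_le_HS (isRoot_sr cs' h' j))).toEquiv

/-- The order for components of type `A`. -/
theorem card_HS' [Finite Y] {q : ℕ} (hX : ∀ x, IsRoot cs h x → Nat.card (X x) = q) (L : List ((ℕ → J) × ℕ))
    (hL : ∀ k : ℕ, ∀ hk : k < L.length, Cfsg.Agent.H35.Poin.APath A'
      (Set.univ \ {j | ∃ e ∈ L.take k, ∃ t < e.2, e.1 t = j}) (L[k].1) (L[k].2))
    (hall : ∀ j, ∃ e ∈ L, ∃ t < e.2, e.1 t = j) :
    Nat.card ↥(HS cs' h' T X β) = Nat.card T * q ^ (RGD.Pos cs' h').ncard *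
      (L.map fun e => ∏ i ∈ Finset.range e.2, ∑ t ∈ Finset.range (i + 2), q ^ t).prod := by
  have hfin : Finite W' := S.finite cs' h'
  obtain ⟨n', -, R'⟩ := exists_rgd_HS (cs' := cs') (h' := h') R hs S hbase
  have h1 : Nat.card (T.subgroupOf (HS cs' h' T X β)) = Nat.card T :=
    Nat.card_congr (Subgroup.subgroupOfEquivOfLe T_le_HS).toEquiv
  have hq : ∀ j, Nat.card ((fun c => (X (iota β c)).subgroupOf (HS cs' h' T X β)) (sr j)) = q := by
    intro j
    rw [← hX _ (S.isRoot_iota (isRoot_sr cs' h' j))]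
    exact Nat.card_congr (Subgroup.subgroupOfEquivOfLe (X_le_HS (isRoot_sr cs' h' j))).toEquiv
  have key : ∀ k : ℕ, k ≤ L.length → Nat.card ↥(HS cs' h' T X β) =
      ((L.take k).map fun e => ∏ i ∈ Finset.range e.2, ∑ t ∈ Finset.range (i + 2), q ^ t).prod *
        Nat.card ↥(PJ cs' h' (T.subgroupOf (HS cs' h' T X β)) (fun c => (X (iota β c)).subgroupOf (HS cs' h' T X β))
          (Set.univ \ {j | ∃ e ∈ L.take k, ∃ t < e.2, e.1 t = j})) := by
    intro k
    induction k with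
    | zero =>
      intro _
      have e1 : (Set.univ \ {j | ∃ e ∈ L.take 0, ∃ t < e.2, e.1 t = j} : Set J) = Set.univ := by
        ext j
        simp
      rw [e1, List.take_zero, List.map_nil, List.prod_nil, one_mul]
      exact card_G' R' GG_HS
    | succ k ih =>
      intro hk
      have hk' : k < L.length := hk
      rw [ih hk'.le, Cfsg.Agent.H35.Poin.card_PJ_path R' (hL k hk') (y := q) (fun t _ => hq _)]
      have e1 : L.take (k + 1) = L.take k ++ [L[k]] := (List.take_concat_get' L k hk').symm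
      have e2 : ((Set.univ \ {j | ∃ e ∈ L.take k, ∃ t < e.2, e.1 t = j}) \ {j | ∃ t < (L[k]).2, (L[k]).1 t = j} : Set J)
          = Set.univ \ {j | ∃ e ∈ L.take (k + 1), ∃ t < e.2, e.1 t = j} := by
        rw [e1]
        ext j
        simp only [Set.mem_sdiff, Set.mem_univ, true_and]
        constructor
        · rintro ⟨h1, h2⟩ ⟨e, he, t, ht, h3⟩
          rw [List.mem_append] at he
          rcases he with he | he
          · exact h1 ⟨e, he, t, ht, h3⟩
          · rw [List.mem_singleton] at he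
            subst he
            exact h2 ⟨t, ht, h3⟩
        · intro h1
          refine ⟨?_, ?_⟩
          · rintro ⟨e, he, t, ht, h3⟩
            exact h1 ⟨e, List.mem_append_left _ he, t, ht, h3⟩
          · rintro ⟨t, ht, h3⟩
            exact h1 ⟨_, List.mem_append_right _ (List.mem_singleton.2 rfl), t, ht, h3⟩
      rw [e2, e1, List.map_append, List.prod_append, List.map_singleton, List.prod_singleton, mul_assoc]
  rw [key L.length le_rfl, List.take_length]
  have e3 : (Set.univ \ {j | ∃ e ∈ L, ∃ t < e.2, e.1 t = j} : Set J) = ∅ := by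
    ext j
    simp only [Set.mem_sdiff, Set.mem_univ, true_and, Set.mem_empty_iff_false, iff_false, not_not]
    exact hall j
  rw [e3, card_PJ_empty R', card_B R' hq, h1, mul_comm]

end Grp

end Cfsg.Agent.R2.H27S.SubG
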