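import Mathlib
import Cfsg.Agent.R2.H27S.SubG
import Cfsg.Agent.H904.E7Main
import Cfsg.Agent.KFacts.RgdCent
import Cfsg.Agent.S1035

/-!
# The root group datum of `E₇(q)`, `q` even: tables (S5934, box S)
-/

set_option autoImplicit false
set_option linter.unusedSectionVars false
set_option linter.dupNamespace false

namespace Cfsg.Agent.R2.H27S.ESeven

open CoxeterSystem Cfsg.Agent.ChevalleyStructure.CoxeterGeom Cfsg.Agent.Tits.Roots Cfsg.Agent.Tits.Core
  Cfsg.Agent.Nodes.Reps Cfsg.Agent.Nodes.BNOf Cfsg.Agent.Nodes.StabComb Cfsg.Agent.Nodes.Bruhat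
  Cfsg.Agent.Nodes.OppDec Cfsg.Agent.Nodes.LeviDec Cfsg.Agent.Nodes.SubComb Cfsg.Agent.Nodes.Coroot
  Cfsg.Agent.KFacts.RgdSL Cfsg.Agent.KFacts.RgdTI Cfsg.Agent.KFacts.RgdCent Cfsg.Agent.KFacts.RgdPar
open Cfsg.Lie Cfsg.Agent.ChevalleyStructure Cfsg.Agent.ChevalleyStructure.Elts Cfsg.Agent.Nodes.RGDChev
  Cfsg.Agent.ChevalleyStructure.CoxeterGeomTypes
  Cfsg.Agent.KFacts.RgdChevCoord
open Cfsg.Agent.H904.E7Lat Cfsg.Agent.H904.E7Form Cfsg.Agent.H904.E7Main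
open scoped commutatorElement

universe u

/-- the Weyl group -/
abbrev W7 : Type := CoxeterMatrix.E₇.Group
abbrev cs7 : CoxeterSystem CoxeterMatrix.E₇ W7 := CoxeterMatrix.E₇.toCoxeterSystem
abbrev h7 : IsCartan CoxeterMatrix.E₇ (cartanOf chevE7 7) := hp7.isCartan

instance : Finite W7 := finite_W hp7 cs7
noncomputable instance : Fintype W7 := Fintype.ofFinite _

/-- the roots as vectors -/
abbrev rv (r : ℕ) : V := vec chevE7 7 r

theorem nroots_eq : chevE7.nroots = 126 := by decide +kernel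

theorem isRoot_iff7 (x : V) : IsRoot cs7 h7 x ↔ ∃ r < 126, rv r = x := by
  rw [← nroots_eq]
  exact isRoot_iff hp7 cs7 x

theorem isRoot_rv {r : ℕ} (hr : r < 126) : IsRoot cs7 h7 (rv r) := (isRoot_iff7 _).2 ⟨r, hr, rfl⟩

theorem rv_inj {r s : ℕ} (hr : r < 126) (hs : s < 126) (e : rv r = rv s) : r = s :=
  vec_inj hp7 (by rw [nroots_eq]; exact hr) (by rw [nroots_eq]; exact hs) e

theorem rv_neg {r : ℕ} (hr : r < 126) : rv (chevE7.neg r) = -rv r := vec_neg hp7 (by rw [nroots_eq]; exact hr)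

theorem neg_lt7 : ∀ r < 126, chevE7.neg r < 126 := by decide +kernel

theorem cpr_eq (x : V) {y : V} (hy : IsRoot cs7 h7 y) : cpr cs7 h7 x y = bf x y := by
  obtain ⟨w, i, rfl⟩ := hy
  rw [cpr_rep_sr, pairing_eq, bf_symm]
  have h1 : bf (sr i) (rep cs7 h7 w⁻¹ x) = bf (rep cs7 h7 w (sr i)) x := by
    rw [← bf_rep cs7 w (sr i), rep_apply_inv]
  rw [← h1]
  have h2 := bf_single (rep cs7 h7 w⁻¹ x) i 1
  rw [one_mul] at h2
  exact h2.symm

theorem sl7 : SL cs7 h7 := by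
  intro x y hx hy
  rw [cpr_eq x hy, cpr_eq y hx, bf_symm]

theorem Coord_card {Y F : Type*} [Group Y] [Field F] {T P : Subgroup Y} {x : F → Y} {χ : Y → F}
    (C : Cfsg.Agent.KFacts.RgdField.Coord T P x χ) : Nat.card P = Nat.card F := by
  symm
  refine Nat.card_congr (Equiv.ofBijective (fun a : F => (⟨x a, (C.mem _).2 ⟨a, rfl⟩⟩ : P))
    ⟨fun a b hab => C.inj (congrArg Subtype.val hab), fun y => ?_⟩)
  obtain ⟨a, ha⟩ := (C.mem y).1 y.2
  exact ⟨a, Subtype.ext ha⟩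

section Field

variable (K : Type u) [Field K] [Finite K] [CharP K 2]

/-- the root groups -/
abbrev X7 : V → Subgroup ↥(chevE7.group K) := XX chevE7 7 K

abbrev T7 : Subgroup ↥(chevE7.group K) := TT chevE7 K

theorem R7 : RGD cs7 h7 2 (T7 K) (nc hp7 K) (X7 K) := rgd (K := K) hp7 cs7 2

theorem GG7 : GG cs7 h7 (T7 K) (X7 K) = ⊤ := Cfsg.Agent.BpExc.TorChev.GG_top (K := K) hp7 cs7

theorem lr7 {x : V} (hx : IsRoot cs7 h7 x) : LR (R7 K) x := by
  obtain ⟨w, i, rfl⟩ := hx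
  obtain ⟨j, hj⟩ : ∃ j : Fin 7, cartanOf chevE7 7 j i = -1 := by
    simp only [cartan_eq]
    revert i
    decide +kernel
  refine (LR.of_SL (R7 K) sl7 (isRoot_sr cs7 h7 i) (isRoot_sr cs7 h7 j).neg ?_).act w
  rw [cpr_neg_right cs7 h7 _ (isRoot_sr cs7 h7 j), cpr_sr, sr, pairing_single, hj]
  norm_num

theorem card_X7 {x : V} (hx : IsRoot cs7 h7 x) : Nat.card (X7 K x) = Nat.card K := by
  have C := (coords (K := K) hp7 cs7 2).coord x hx
  exact Coord_card C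

end Field

theorem T7_eq_bot (K : Type u) [Field K] [Fintype K] (hK : Fintype.card K = 2) : T7 K = ⊥ := by
  have h1 := Cfsg.Agent.S1035.result (F := K) hK (chevE7, Nat.gcd 2 (2 - 1)) (by simp)
  have h2 : Nat.card (chevE7.diagonalSubgroup K) = 1 := by simpa using h1
  rw [Subgroup.card_eq_one] at h2
  unfold T7 TT
  rw [h2, Subgroup.bot_subgroupOf]

end Cfsg.Agent.R2.H27S.ESeven
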