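import Mathlib
import Cfsg.Agent.R2.H27S.ESeven
import Cfsg.Agent.R2.H27.Box
import Cfsg.Agent.H129.FE.ESevenTab
import Cfsg.Agent.H129.FE.Grp

/-!
# Root elements of `E₇(2)` (S5934, box S)
-/

set_option autoImplicit false
set_option linter.unusedSectionVars false

namespace Cfsg.Agent.R2.H27S.FTwo

open CoxeterSystem Cfsg.Agent.ChevalleyStructure.CoxeterGeom Cfsg.Agent.Tits.Roots Cfsg.Agent.Tits.Core
  Cfsg.Agent.Nodes.Reps Cfsg.Agent.Nodes.BNOf Cfsg.Agent.Nodes.StabComb Cfsg.Agent.Nodes.Bruhat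
  Cfsg.Agent.Nodes.OppDec Cfsg.Agent.Nodes.LeviDec Cfsg.Agent.Nodes.SubComb Cfsg.Agent.Nodes.Coroot
  Cfsg.Agent.KFacts.RgdSL Cfsg.Agent.KFacts.RgdTI Cfsg.Agent.KFacts.RgdCent Cfsg.Agent.KFacts.RgdPar
open Cfsg.Lie Cfsg.Agent.ChevalleyStructure Cfsg.Agent.ChevalleyStructure.Elts Cfsg.Agent.Nodes.RGDChev
  Cfsg.Agent.ChevalleyStructure.StBasic Cfsg.Agent.ChevalleyStructure.StTheta
  Cfsg.Agent.ChevalleyStructure.CoxeterGeomTypes
  Cfsg.Agent.KFacts.RgdChevCoord
open Cfsg.Agent.H904.E7Lat Cfsg.Agent.H904.E7Form Cfsg.Agent.H904.E7Main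
open Cfsg.Agent.R2.H27 (G7)
open Cfsg.Agent.R2.H27S.ESeven Cfsg.Agent.H129.FE

abbrev F2 : Type := ZMod 2

theorem hF : Fintype.card F2 = 2 := rfl

theorem hN : Nat.card F2 = 2 := by rw [Nat.card_eq_fintype_card]; rfl

theorem T_bot : T7 F2 = ⊥ := T7_eq_bot F2 hF

/-- the root elements -/
def xe (r : ℕ) : G7 := xg F2 hp7.inList r 1

theorem xe_mul (r : ℕ) : xe r * xe r = 1 := by
  apply Subtype.ext
  show xG hp7.inList r (1 : F2) * xG hp7.inList r (1 : F2) = 1
  rw [xG_add]
  exact xG_zero hp7.inList r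

theorem xe_inv (r : ℕ) : (xe r)⁻¹ = xe r := inv_eq_of_mul_eq_one_left (xe_mul r)

theorem xe_ne_one {r : ℕ} (hr : r < 126) : xe r ≠ 1 := by
  intro h
  have h1 : xG hp7.inList r (1 : F2) = 1 := congrArg Subtype.val h
  rw [xG_eq_one_iff hp7.inList (by rw [nroots_eq]; exact hr)] at h1
  exact one_ne_zero h1

theorem orderOf_xe {r : ℕ} (hr : r < 126) : orderOf (xe r) = 2 :=
  orderOf_eq_prime (by rw [pow_two, xe_mul]) (xe_ne_one hr)

theorem two_elts (t : F2) : t = 0 ∨ t = 1 := by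
  revert t; decide

theorem mem_X7 {r : ℕ} (hr : r < 126) {u : G7} : u ∈ X7 F2 (rv r) ↔ u = 1 ∨ u = xe r := by
  show (u : GL chevE7.Idx F2) ∈ XV chevE7 7 F2 (vec chevE7 7 r) ↔ _
  rw [XV_vec hp7 F2 (by rw [nroots_eq]; exact hr), mem_rootSubgroup_iff hp7.inList]
  constructor
  · rintro ⟨t, ht⟩
    rcases two_elts t with rfl | rfl
    · left
      apply Subtype.ext
      rw [ht, xG_zero]
      rfl
    · right
      apply Subtype.ext
      rw [ht]
      rfl
  · rintro (rfl | rfl)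
    · exact ⟨0, by rw [xG_zero]; rfl⟩
    · exact ⟨1, rfl⟩

theorem xe_mem {r : ℕ} (hr : r < 126) : xe r ∈ X7 F2 (rv r) := (mem_X7 hr).2 (Or.inr rfl)

theorem xe_conj {w : W7} {g : G7} (hg : Rp cs7 (R7 F2).nsys w g) {r s : ℕ} (hr : r < 126) (hs : s < 126)
    (h : rep cs7 h7 w (rv r) = rv s) : g * xe r * g⁻¹ = xe s := by
  have h1 := RGD.conj_mem (R7 F2) hg (isRoot_rv hr) (xe_mem hr)
  rw [h, mem_X7 hs] at h1
  rcases h1 with h1 | h1
  · exfalso
    apply xe_ne_one hr
    have h2 : g⁻¹ * (g * xe r * g⁻¹) * g = xe r := by group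
    rw [← h2, h1]
    group
  · exact h1

theorem X7_eq_zpowers {r : ℕ} (hr : r < 126) : X7 F2 (rv r) = Subgroup.zpowers (xe r) := by
  apply le_antisymm
  · intro u hu
    rcases (mem_X7 hr).1 hu with rfl | rfl
    · exact one_mem _
    · exact Subgroup.mem_zpowers _
  · rw [Subgroup.zpowers_le]
    exact xe_mem hr

theorem theta_ev (r : ℕ) : theta hp7.inList F2 (chevE7.stGen F2 r 1) = xe r := theta_stGen' hp7.inList F2 r 1

theorem xe_comm {r s : ℕ} (hr : r < 126) (hs : s < 126) (hne : s ≠ r) (hneg : s ≠ chevE7.neg r)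
    (h : ct chevE7 r s = []) : Commute (xe r) (xe s) := by
  have h1 := stGen_mul_stGen chevE7 (K := F2) (r := r) (s := s) (by rw [nroots_eq]; exact hr)
    (by rw [nroots_eq]; exact hs) hne hneg 1 1
  rw [ChevalleyDatum.commWord, laced_E7 r (by rw [nroots_eq]; exact hr) s (by rw [nroots_eq]; exact hs) hne hneg, h,
    List.map_nil, List.map_nil, wd_nil, mul_one] at h1
  have h2 := congrArg (theta hp7.inList F2) h1
  rw [map_mul, map_mul, theta_ev, theta_ev] at h2
  exact h2.symm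

theorem xe_swap {r s : ℕ} (hr : r < 126) (hs : s < 126) (hne : s ≠ r) (hneg : s ≠ chevE7.neg r) {q : ℕ × ℤ}
    (h : ct chevE7 r s = [q]) (hq : (q.2 : F2) = 1) : xe s * xe r = xe r * xe s * xe q.1 := by
  have h1 := stGen_mul_stGen chevE7 (K := F2) (r := r) (s := s) (by rw [nroots_eq]; exact hr)
    (by rw [nroots_eq]; exact hs) hne hneg 1 1
  rw [ChevalleyDatum.commWord, laced_E7 r (by rw [nroots_eq]; exact hr) s (by rw [nroots_eq]; exact hs) hne hneg, h,
    List.map_cons, List.map_nil, List.map_cons, List.map_nil, wd_singleton] at h1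
  have h2 := congrArg (theta hp7.inList F2) h1
  rw [map_mul, map_mul, map_mul, theta_ev, theta_ev] at h2
  rw [h2]
  have h3 : (((q.2 : ℤ) : F2) * (-1) ^ 1 * 1 ^ 1 : F2) = 1 := by
    rw [hq]; decide
  have h4 : theta hp7.inList F2 (chevE7.stGen F2 q.1 (((q.2 : ℤ) : F2) * (-1) ^ 1 * 1 ^ 1)) = xe q.1 := by
    rw [h3, theta_ev]
  exact congrArg (fun z => xe r * xe s * z) h4

/-! ### words -/

/-- the value of a word in the root elements -/
def wv (w : List ℕ) : G7 := (w.map xe).prod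

theorem wv_nil : wv [] = 1 := rfl

theorem wv_cons (r : ℕ) (w : List ℕ) : wv (r :: w) = xe r * wv w := by
  simp [wv]

theorem wv_append (v w : List ℕ) : wv (v ++ w) = wv v * wv w := by
  simp [wv]

theorem wv_reverse (w : List ℕ) : wv w.reverse = (wv w)⁻¹ := by
  induction w with
  | nil => simp [wv]
  | cons a w ih => rw [List.reverse_cons, wv_append, ih, wv_cons, wv_cons, wv_nil, mul_one, mul_inv_rev, xe_inv]

variable (cc : ℕ → ℕ → List (ℕ × ℤ)) (ng : ℕ → ℕ) (pos : ℕ → ℕ)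

/-- multiplication of a sorted word by a letter on the left -/
def insG : ℕ → ℕ → List ℕ → List ℕ
  | _, l, [] => [l]
  | 0, l, w => l :: w
  | n + 1, l, m :: w =>
    if l = m then w
    else if pos l < pos m then l :: m :: w
    else if l < 126 ∧ m < 126 ∧ l ≠ ng m then
      match cc m l with
      | [] => m :: insG n l w
      | [q] => if q.2 = 1 ∨ q.2 = -1 then m :: insG n l (insG n q.1 w) else l :: m :: w
      | _ => l :: m :: w
    else l :: m :: w

variable {cc ng} in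
theorem wv_insG (hc : ∀ r s, cc r s = ct chevE7 r s) (hn : ∀ r, ng r = chevE7.neg r) (n : ℕ) :
    ∀ (l : ℕ) (w : List ℕ), wv (insG cc ng pos n l w) = xe l * wv w := by
  induction n with
  | zero =>
    intro l w
    cases w with
    | nil => rw [insG, wv_cons]
    | cons m w =>
      rw [insG, wv_cons]
      exact List.cons_ne_nil _ _
  | succ n ih =>
    intro l w
    cases w with
    | nil => rw [insG, wv_cons]
    | cons m w =>
      rw [insG]
      split_ifs with h1 h2 h3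
      · rw [h1, wv_cons, ← mul_assoc, xe_mul, one_mul]
      · rw [wv_cons]
      · obtain ⟨h4, h5, h6⟩ := h3
        rw [hn] at h6
        split
        · rename_i heq
          rw [wv_cons, ih, wv_cons, ← mul_assoc, ← mul_assoc, (xe_comm h5 h4 h1 h6 ((hc _ _).symm.trans heq)).eq]
        · rename_i q heq
          split_ifs with h7
          · have h8 : (q.2 : F2) = 1 := by
              rcases h7 with h7 | h7 <;> rw [h7] <;> decide
            rw [wv_cons, ih, ih, wv_cons, ← mul_assoc (xe l) (xe m) (wv w),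
              xe_swap h5 h4 h1 h6 ((hc _ _).symm.trans heq) h8]
            simp only [mul_assoc]
          · rw [wv_cons]
        · rw [wv_cons]
      · rw [wv_cons]

/-- multiplication of a sorted word by a letter on the left -/
def ins2 : ℕ → ℕ → List ℕ → List ℕ := insG (ct chevE7) chevE7.neg pos

theorem wv_ins2 (n : ℕ) (l : ℕ) (w : List ℕ) : wv (ins2 pos n l w) = xe l * wv w :=
  wv_insG pos (fun _ _ => rfl) (fun _ => rfl) n l w

/-- the sorted word -/
def nf2 (n : ℕ) : List ℕ → List ℕ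
  | [] => []
  | l :: w => ins2 pos n l (nf2 n w)

theorem wv_nf2 (n : ℕ) (w : List ℕ) : wv (nf2 pos n w) = wv w := by
  induction w with
  | nil => rfl
  | cons l w ih => rw [nf2, wv_ins2, ih, wv_cons]

theorem wv_eq_of_nf {n : ℕ} {v w : List ℕ} (h : nf2 pos n v = nf2 pos n w) : wv v = wv w := by
  rw [← wv_nf2 pos n v, h, wv_nf2]

theorem commute_of_nf {n : ℕ} {v w : List ℕ} (h : nf2 pos n (v ++ w) = nf2 pos n (w ++ v)) :
    Commute (wv v) (wv w) := by
  have h1 := wv_eq_of_nf pos h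
  rwa [wv_append, wv_append] at h1

end Cfsg.Agent.R2.H27S.FTwo
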