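import Mathlib
import Cfsg.Agent.R2.H27S.FTwo
import Cfsg.Agent.S2401
import Cfsg.Agent.S0765
import Cfsg.Agent.S0245
import Cfsg.Agent.S0246
import Cfsg.Agent.S0270
import Cfsg.Agent.ClassicalGeometry.SympBasic

/-!
# `Sp₆(2) ≤ SL₆(2) → E₇(2)` (S5934, box S12)
-/

set_option autoImplicit false
set_option linter.unusedSectionVars false

namespace Cfsg.Agent.R2.H27S.SpSix

open Cfsg.Lie Cfsg.Agent.ChevalleyStructure Cfsg.Agent.ChevalleyStructure.Elts
  Cfsg.Agent.ChevalleyStructure.StBasic Cfsg.Agent.ClassicalGeometry.SympBasic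
open Cfsg.Agent.R2.H27 (G7)
open Cfsg.Agent.R2.H27S.ESeven Cfsg.Agent.R2.H27S.FTwo Cfsg.Agent.H129.FE
open Cfsg (sympForm sympTransvection)

/-! ### `SL₆(2) → E₇(2)` -/

/-- the roots of `A₅` -/
def tR : Array (Array ℕ) := #[#[1000, 78, 79, 80, 81, 82], #[47, 1000, 69, 70, 71, 72], #[46, 56, 1000, 66, 67, 68],
  #[45, 55, 59, 1000, 64, 65], #[44, 54, 58, 61, 1000, 63], #[43, 53, 57, 60, 62, 1000]]

/-- the root of `A₅` belonging to `(i, j)` -/
def rt6 (i j : Fin 6) : ℕ := (tR.getD i #[]).getD j 1000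

theorem rt6_lt : ∀ i j : Fin 6, i ≠ j → rt6 i j < 126 := by decide +kernel

theorem rt6_comm : ∀ i j k l : Fin 6, i ≠ j → k ≠ l → i ≠ l → j ≠ k → rt6 k l ≠ rt6 i j →
    (rt6 k l ≠ chevE7.neg (rt6 i j) ∧ ct chevE7 (rt6 i j) (rt6 k l) = []) := by decide +kernel

theorem rt6_swap : ∀ i j l : Fin 6, i ≠ j → j ≠ l → i ≠ l → rt6 j l ≠ rt6 i j ∧ rt6 j l ≠ chevE7.neg (rt6 i j) ∧
    (ct chevE7 (rt6 j l) (rt6 i j) = [(rt6 i l, 1)] ∨ ct chevE7 (rt6 j l) (rt6 i j) = [(rt6 i l, -1)]) ∧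
    rt6 i j ≠ chevE7.neg (rt6 j l) ∧ rt6 i l ≠ rt6 i j ∧ rt6 i l ≠ rt6 j l ∧ rt6 i l ≠ chevE7.neg (rt6 i j) ∧
    ct chevE7 (rt6 i j) (rt6 i l) = [] := by decide +kernel

/-- the images of the generators -/
def g6 (a : {ij : Fin 6 × Fin 6 // ij.1 ≠ ij.2}) (t : F2) : G7 := if t = 0 then 1 else xe (rt6 a.1.1 a.1.2)

theorem g6_zero (a : {ij : Fin 6 × Fin 6 // ij.1 ≠ ij.2}) : g6 a 0 = 1 := if_pos rfl

theorem g6_one (a : {ij : Fin 6 × Fin 6 // ij.1 ≠ ij.2}) : g6 a 1 = xe (rt6 a.1.1 a.1.2) := if_neg one_ne_zero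

theorem g6_add (a : {ij : Fin 6 × Fin 6 // ij.1 ≠ ij.2}) (t u : F2) : g6 a t * g6 a u * (g6 a (t + u))⁻¹ = 1 := by
  rcases two_elts t with rfl | rfl <;> rcases two_elts u with rfl | rfl
  · rw [g6_zero, zero_add, g6_zero, mul_one, inv_one, mul_one]
  · rw [g6_zero, zero_add, one_mul, mul_inv_cancel]
  · rw [g6_zero, add_zero, mul_one, mul_inv_cancel]
  · have h1 : (1 : F2) + 1 = 0 := by decide
    rw [h1, g6_zero, g6_one, xe_mul, inv_one, mul_one]

theorem g6_comm (a b : {ij : Fin 6 × Fin 6 // ij.1 ≠ ij.2}) (t u : F2) (h1 : a.1.1 ≠ b.1.2) (h2 : a.1.2 ≠ b.1.1) :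
    g6 a t * g6 b u * (g6 a t)⁻¹ * (g6 b u)⁻¹ = 1 := by
  have key : Commute (g6 a t) (g6 b u) := by
    rcases two_elts t with rfl | rfl
    · rw [g6_zero]; exact Commute.one_left _
    rcases two_elts u with rfl | rfl
    · rw [g6_zero]; exact Commute.one_right _
    rw [g6_one, g6_one]
    by_cases h : rt6 b.1.1 b.1.2 = rt6 a.1.1 a.1.2
    · rw [h]
    · obtain ⟨h3, h4⟩ := rt6_comm a.1.1 a.1.2 b.1.1 b.1.2 a.2 b.2 h1 h2 h
      exact xe_comm (rt6_lt _ _ a.2) (rt6_lt _ _ b.2) h h3 h4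
  rw [key.eq]
  group

theorem xe_bracket {r s q : ℕ} (hr : r < 126) (hs : s < 126) (hne : s ≠ r) (hneg : r ≠ chevE7.neg s)
    (h : ct chevE7 s r = [(q, 1)] ∨ ct chevE7 s r = [(q, -1)]) :
    xe r * xe s * (xe r)⁻¹ * (xe s)⁻¹ * (xe q)⁻¹ = 1 := by
  have e1 : ((1 : ℤ) : F2) = 1 := by decide
  have e2 : ((-1 : ℤ) : F2) = 1 := by decide
  have h1 : xe r * xe s = xe s * xe r * xe q := by
    rcases h with h | h
    · exact xe_swap (q := (q, 1)) hs hr hne.symm hneg h e1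
    · exact xe_swap (q := (q, -1)) hs hr hne.symm hneg h e2
  have h2 : xe s * xe r = xe r * xe s * xe q := by
    calc xe s * xe r = xe s * xe r * (xe q * xe q) := by rw [xe_mul, mul_one]
      _ = xe s * xe r * xe q * xe q := by group
      _ = xe r * xe s * xe q := by rw [h1]
  rw [xe_inv, xe_inv, xe_inv]
  calc xe r * xe s * xe r * xe s * xe q = xe r * xe s * (xe r * xe s * xe q) := by group
    _ = xe r * xe s * (xe s * xe r) := by rw [h2]
    _ = xe r * (xe s * xe s) * xe r := by group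
    _ = 1 := by rw [xe_mul, mul_one, xe_mul]

theorem g6_br (a b : {ij : Fin 6 × Fin 6 // ij.1 ≠ ij.2}) (h : a.1.1 ≠ b.1.2) (t u : F2) (h2 : a.1.2 = b.1.1) :
    g6 a t * g6 b u * (g6 a t)⁻¹ * (g6 b u)⁻¹ * (g6 ⟨(a.1.1, b.1.2), h⟩ (t * u))⁻¹ = 1 := by
  rcases two_elts t with rfl | rfl
  · rw [zero_mul, g6_zero, g6_zero]; group
  rcases two_elts u with rfl | rfl
  · rw [mul_zero, g6_zero, g6_zero]; group
  rw [mul_one, g6_one, g6_one, g6_one]
  obtain ⟨⟨i, j⟩, hij⟩ := a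
  obtain ⟨⟨k, l⟩, hkl⟩ := b
  change j = k at h2
  subst h2
  change i ≠ l at h
  change i ≠ j at hij
  change j ≠ l at hkl
  obtain ⟨h3, h4, h5, h6, -⟩ := rt6_swap i j l hij hkl h
  exact xe_bracket (rt6_lt i j hij) (rt6_lt j l hkl) h3 h6 h5

/-- elementary matrices -/
def el (i j : Fin 6) (h : i ≠ j) : Matrix.SpecialLinearGroup (Fin 6) F2 :=
  ⟨Matrix.transvection i j 1, Matrix.det_transvection_of_ne i j h 1⟩

/-- **`SL₆(2) → E₇(2)`** -/
theorem exists_sl : ∃ φ : Matrix.SpecialLinearGroup (Fin 6) F2 →* G7, ∀ i j (h : i ≠ j), φ (el i j h) = xe (rt6 i j) := by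
  obtain ⟨e, he⟩ := Cfsg.Agent.S2401.result (K := F2) 6 (by norm_num)
  have hrel : ∀ r ∈ ({g : FreeGroup ({ij : Fin 6 × Fin 6 // ij.1 ≠ ij.2} × F2) | ∃ (a : {ij : Fin 6 × Fin 6 // ij.1 ≠ ij.2}) (t u : F2),
            g = FreeGroup.of (a, t) * FreeGroup.of (a, u) * (FreeGroup.of (a, t + u))⁻¹} ∪
          {g | ∃ (a b : {ij : Fin 6 × Fin 6 // ij.1 ≠ ij.2}) (t u : F2), a.1.1 ≠ b.1.2 ∧ a.1.2 ≠ b.1.1 ∧
            g = FreeGroup.of (a, t) * FreeGroup.of (b, u) * (FreeGroup.of (a, t))⁻¹ * (FreeGroup.of (b, u))⁻¹} ∪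
          {g | ∃ (a b : {ij : Fin 6 × Fin 6 // ij.1 ≠ ij.2}) (h : a.1.1 ≠ b.1.2) (t u : F2), a.1.2 = b.1.1 ∧
            g = FreeGroup.of (a, t) * FreeGroup.of (b, u) * (FreeGroup.of (a, t))⁻¹ * (FreeGroup.of (b, u))⁻¹ *
              (FreeGroup.of (⟨(a.1.1, b.1.2), h⟩, t * u))⁻¹}),
      FreeGroup.lift (fun p : {ij : Fin 6 × Fin 6 // ij.1 ≠ ij.2} × F2 => g6 p.1 p.2) r = 1 := by
    rintro _ ((⟨a, t, u, rfl⟩ | ⟨a, b, t, u, h1, h2, rfl⟩) | ⟨a, b, h, t, u, h2, rfl⟩)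
    · rw [map_mul, map_mul, map_inv, FreeGroup.lift_apply_of, FreeGroup.lift_apply_of, FreeGroup.lift_apply_of]
      exact g6_add a t u
    · rw [map_mul, map_mul, map_mul, map_inv, map_inv, FreeGroup.lift_apply_of, FreeGroup.lift_apply_of]
      exact g6_comm a b t u h1 h2
    · rw [map_mul, map_mul, map_mul, map_mul, map_inv, map_inv, map_inv, FreeGroup.lift_apply_of,
        FreeGroup.lift_apply_of, FreeGroup.lift_apply_of]
      exact g6_br a b h t u h2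
  refine ⟨(PresentedGroup.toGroup hrel).comp e.symm.toMonoidHom, ?_⟩
  intro i j h
  have h1 : e.symm (el i j h) = PresentedGroup.of (⟨(i, j), h⟩, 1) := by
    rw [MulEquiv.symm_apply_eq]
    apply Subtype.ext
    rw [he]
    rfl
  show PresentedGroup.toGroup hrel (e.symm (el i j h)) = _
  rw [h1, PresentedGroup.toGroup.of]
  exact g6_one _

/-! ### `Sp₆(2) → SL₆(2)` -/

/-- the symplectic group -/
abbrev Sp : Type := ↥(Matrix.symplecticGroup (Fin 3) F2)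

/-- the numbering of the basis -/
def eq6 : Fin 3 ⊕ Fin 3 ≃ Fin 6 where
  toFun := Sum.elim ![0, 1, 2] ![5, 4, 3]
  invFun := ![Sum.inl 0, Sum.inl 1, Sum.inl 2, Sum.inr 2, Sum.inr 1, Sum.inr 0]
  left_inv := by decide
  right_inv := by decide

/-- `Sp₆(2) → SL₆(2)` -/
def toSL : Sp →* Matrix.SpecialLinearGroup (Fin 6) F2 where
  toFun A := ⟨Matrix.reindex eq6 eq6 (A : Matrix (Fin 3 ⊕ Fin 3) (Fin 3 ⊕ Fin 3) F2), by
    rw [Matrix.det_reindex_self]
    exact SymplecticGroup.det_eq_one A.2⟩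
  map_one' := by
    apply Subtype.ext
    show Matrix.reindex eq6 eq6 (1 : Matrix (Fin 3 ⊕ Fin 3) (Fin 3 ⊕ Fin 3) F2) = 1
    rw [Matrix.reindex_apply, Matrix.submatrix_one_equiv]
  map_mul' A B := by
    apply Subtype.ext
    show Matrix.reindex eq6 eq6 ((A : Matrix (Fin 3 ⊕ Fin 3) (Fin 3 ⊕ Fin 3) F2) *
      (B : Matrix (Fin 3 ⊕ Fin 3) (Fin 3 ⊕ Fin 3) F2)) = _
    rw [Matrix.reindex_apply, ← Matrix.submatrix_mul_equiv _ _ _ eq6.symm]
    rfl

/-- vectors -/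
def vn (n : ℕ) : Fin 3 ⊕ Fin 3 → F2 :=
  Sum.elim (fun i => if n.testBit i then 1 else 0) (fun i => if n.testBit (3 + i) then 1 else 0)

/-- symplectic transvections -/
abbrev tv (v : Fin 3 ⊕ Fin 3 → F2) : Sp := transv v (1 : F2)

theorem tv_conj (v w : Fin 3 ⊕ Fin 3 → F2) (h : sympForm 3 F2 v w = 1) : tv w * tv v * (tv w)⁻¹ = tv (v + w) := by
  rw [mul_inv_eq_iff_eq_mul]
  apply Subtype.ext
  show sympTransvection 3 w 1 * sympTransvection 3 v 1 = sympTransvection 3 (v + w) 1 * sympTransvection 3 w (1 : F2)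
  rw [mul_sympTransvection (sympTransvection_mem w 1), sympTransvection_mulVec, h, one_mul, one_smul]

/-- the checker -/
def chkS : List (ℕ × ℕ) → List ℕ → Bool
  | [], L => (List.range 64).all fun n => n == 0 || L.contains n
  | e :: s, L => L.contains e.1 && L.contains e.2 && decide (sympForm 3 F2 (vn e.1) (vn e.2) = 1) &&
      decide (vn e.1 + vn e.2 = vn (e.1 ^^^ e.2)) && chkS s ((e.1 ^^^ e.2) :: L)

theorem chkS_spec {H : Subgroup Sp} : ∀ (s : List (ℕ × ℕ)) (L : List ℕ), chkS s L = true →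
    (∀ n ∈ L, tv (vn n) ∈ H) → ∀ n < 64, n ≠ 0 → tv (vn n) ∈ H
  | [], L, h, hL, n, hn, h0 => by
    rw [chkS, List.all_eq_true] at h
    have h1 := h n (List.mem_range.2 hn)
    simp only [Bool.or_eq_true, beq_iff_eq, List.contains_iff_mem] at h1
    exact hL n (h1.resolve_left h0)
  | e :: s, L, h, hL, n, hn, h0 => by
    rw [chkS] at h
    simp only [Bool.and_eq_true, decide_eq_true_eq, List.contains_iff_mem] at h
    obtain ⟨⟨⟨⟨h1, h2⟩, h3⟩, h4⟩, h5⟩ := h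
    refine chkS_spec s _ h5 (fun m hm => ?_) n hn h0
    rcases List.mem_cons.1 hm with rfl | hm
    · rw [← h4, ← tv_conj _ _ h3]
      exact mul_mem (mul_mem (hL _ h2) (hL _ h1)) (inv_mem (hL _ h2))
    · exact hL m hm

/-- the steps -/
def steps : List (ℕ × ℕ) := [(1, 8), (2, 16), (3, 8), (3, 9), (3, 16), (3, 18), (4, 32), (6, 16), (6, 17), (6, 18),
  (6, 19), (6, 32), (6, 36), (8, 17), (8, 19), (8, 21), (8, 23), (16, 10), (16, 23), (16, 31), (16, 34), (16, 38),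
  (32, 7), (32, 15), (32, 20), (32, 21), (32, 23), (32, 29), (32, 31), (1, 15), (1, 25), (1, 29), (1, 31), (1, 47),
  (1, 61), (1, 63), (2, 50), (3, 14), (3, 15), (3, 46), (3, 47), (3, 48), (3, 50), (4, 39), (4, 44), (4, 45), (4, 46),
  (4, 47), (4, 60), (4, 61), (4, 62), (4, 63), (6, 35), (6, 39), (8, 13)]

/-- the basic vectors -/
def base : List ℕ := [1, 2, 4, 8, 16, 32, 3, 6]

theorem chk_steps : chkS steps base = true := by decide +kernel

theorem vn_surj : ∀ v : Fin 3 ⊕ Fin 3 → F2, ∃ n ∈ List.range 64, vn n = v := by decide +kernel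

theorem tv_zero : tv 0 = 1 := by
  apply Subtype.ext
  show sympTransvection 3 (0 : Fin 3 ⊕ Fin 3 → F2) 1 = 1
  rw [sympTransvection_def, Matrix.zero_vecMulVec, smul_zero, add_zero]

theorem vn_zero : vn 0 = 0 := by decide +kernel

/-- **generation** -/
theorem eq_top {H : Subgroup Sp} (h : ∀ n ∈ base, tv (vn n) ∈ H) : H = ⊤ := by
  rw [eq_top_iff, ← Cfsg.Agent.S0765.result (F := F2) 3, Subgroup.closure_le]
  rintro A ⟨w, c, hA⟩
  obtain ⟨n, hn, rfl⟩ := vn_surj w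
  rcases two_elts c with rfl | rfl
  · have h1 : A = 1 := by
      apply Subtype.ext
      rw [hA, sympTransvection_zero]
      rfl
    rw [h1]
    exact one_mem _
  · have h1 : A = tv (vn n) := Subtype.ext hA
    rw [h1]
    by_cases h0 : n = 0
    · rw [h0, vn_zero, tv_zero]
      exact one_mem _
    · exact chkS_spec steps base chk_steps h n (List.mem_range.1 hn) h0

theorem center_bot : Subgroup.center Sp = ⊥ := by
  have h1 := Cfsg.Agent.S0246.result (F := F2) (q := 2) hF 3 (by norm_num)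
  exact Subgroup.card_eq_one.1 h1

instance simpleSp : IsSimpleGroup Sp := by
  have h1 : IsSimpleGroup (Cfsg.PSp 3 F2) := Cfsg.Agent.S0270.result (F := F2) 3 (by norm_num) (by norm_num)
  have e : Sp ≃* Cfsg.PSp 3 F2 :=
    (QuotientGroup.quotientBot (G := Sp)).symm.trans (QuotientGroup.quotientMulEquivOfEq center_bot.symm)
  exact e.isSimpleGroup

theorem cardSp : Nat.card Sp = 1451520 := by
  have h1 := Cfsg.Agent.S0245.result (F := F2) (q := 2) hF 3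
  rw [h1]
  decide

end Cfsg.Agent.R2.H27S.SpSix
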